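import Cfsg.Agent.Lib.Char.ThreePrime.Setup
import Cfsg.Agent.Lib.Char.Ito

/-!
# The minimal normal subgroups belong to their lacking primes
-/

set_option autoImplicit false
set_option linter.unusedSectionVars false
set_option linter.style.haveILetI false

universe u

namespace Cfsg.Lib.Char.ThreePrime

open Cfsg Cfsg.Lib.Char Cfsg.Lib.Char.RelDeg
open scoped commutatorElement

variable {G : Type u} [Group G] [Finite G] [Group.IsSolvable G]

/-- If the quotient by a minimal normal `l`-subgroup has degrees prime to `p`, then `l = p`. -/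
theorem eq_of_degreesPrimeTo_quotient {p q r : ℕ} (hB : Bad p q r G) {N : Subgroup G} [N.Normal]
    (hmin : Cfsg.Lib.Core.IsMinNormal N) (hN : IsMulCommutative N) {l : ℕ} [Fact l.Prime]
    (hexp : ∀ x ∈ N, x ^ l = 1) (hNl : IsPGroup l N) (hdeg : Lib.Block.DegreesPrimeTo p (G ⧸ N)) :
    l = p := by
  classical
  by_contra hlp
  haveI : Fact p.Prime := ⟨hB.hp⟩
  haveI : Fact q.Prime := ⟨hB.hq⟩
  haveI : Fact r.Prime := ⟨hB.hr⟩
  letI := Fintype.ofFinite G
  letI := Fintype.ofFinite N
  let P : Sylow p G := default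
  have hcomm : ∀ a ∈ N, ∀ b ∈ N, a * b = b * a := fun a ha b hb =>
    congrArg Subtype.val (hN.1.1 ⟨a, ha⟩ ⟨b, hb⟩)
  have hmap : ∀ S : Sylow p G, (S : Subgroup G).map (QuotientGroup.mk' N) =
      (P : Subgroup G).map (QuotientGroup.mk' N) := by
    intro S
    have hn := (exists_sylow_of_degreesPrimeTo hdeg (P.mapSurjective (QuotientGroup.mk'_surjective N))).1
    have := Sylow.unique_of_normal _ hn
    simpa using congrArg (fun X : Sylow p (G ⧸ N) => (X : Subgroup (G ⧸ N)))
      (Subsingleton.elim (S.mapSurjective (QuotientGroup.mk'_surjective N))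
        (P.mapSurjective (QuotientGroup.mk'_surjective N)))
  haveI hMn : ((P : Subgroup G) ⊔ N).Normal := by
    have hn := (exists_sylow_of_degreesPrimeTo hdeg (P.mapSurjective (QuotientGroup.mk'_surjective N))).1
    rw [Sylow.coe_mapSurjective] at hn
    have h := hn.comap (QuotientGroup.mk' N)
    rwa [Subgroup.comap_map_eq, QuotientGroup.ker_mk'] at h
  have hdisjP : N ⊓ (P : Subgroup G) = ⊥ :=
    disjoint_iff.1 (IsPGroup.disjoint_of_ne l p hlp N (P : Subgroup G) hNl P.2)
  have hPc : ∀ a ∈ (P : Subgroup G), ∀ b ∈ (P : Subgroup G), a * b = b * a := by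
    intro a ha b hb
    have hc := (exists_sylow_of_degreesPrimeTo hdeg (P.mapSurjective (QuotientGroup.mk'_surjective N))).2
      a ⟨a, ha, rfl⟩ b ⟨b, hb, rfl⟩
    rw [← QuotientGroup.mk_mul, ← QuotientGroup.mk_mul, QuotientGroup.eq] at hc
    have h : (a * b)⁻¹ * (b * a) ∈ N ⊓ (P : Subgroup G) :=
      ⟨hc, (P : Subgroup G).mul_mem ((P : Subgroup G).inv_mem ((P : Subgroup G).mul_mem ha hb))
        ((P : Subgroup G).mul_mem hb ha)⟩
    rw [hdisjP, Subgroup.mem_bot, inv_mul_eq_one] at h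
    exact h
  have hPn : ¬ (P : Subgroup G).Normal := fun h => hB.dp (degreesPrimeTo_of_sylow P h hPc)
  set H := Subgroup.normalizer ((P : Subgroup G) : Set G) with hH
  have hsup : N ⊔ H = ⊤ := by rw [sup_comm]; exact normalizer_sup P N
  have hdisj : N ⊓ H = ⊥ := by
    have hn : (N ⊓ H).Normal := ⟨fun x hx g => by
      obtain ⟨n, hn', h, hh, rfl⟩ := Subgroup.mem_sup_of_normal_left.1
        (show g ∈ N ⊔ H by rw [hsup]; exact Subgroup.mem_top _)
      have h1 : h * x * h⁻¹ ∈ N ⊓ H :=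
        ⟨‹N.Normal›.conj_mem x hx.1 h, H.mul_mem (H.mul_mem hh hx.2) (H.inv_mem hh)⟩
      have h2 : n * h * x * (n * h)⁻¹ = h * x * h⁻¹ := by
        calc n * h * x * (n * h)⁻¹ = n * (h * x * h⁻¹) * n⁻¹ := by group
          _ = h * x * h⁻¹ * n * n⁻¹ := by rw [hcomm n hn' _ h1.1]
          _ = h * x * h⁻¹ := by group
      rw [h2]
      exact h1⟩
    refine (hmin.2.2 _ hn inf_le_left).resolve_right fun h => hPn ?_
    have hle : N ≤ H := h ▸ inf_le_right
    rw [sup_of_le_right hle] at hsup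
    exact Subgroup.normalizer_eq_top_iff.1 hsup
  have hpT : ∀ m : N →* ℂˣ, m ≠ 1 → p ∣ (inertia N (lin m)).index := by
    intro m hm
    by_contra hnd
    obtain ⟨S, hS⟩ := exists_sylow_le _ hnd
    have hMT : (P : Subgroup G) ⊔ N ≤ inertia N (lin m) := by
      have h := congrArg (Subgroup.comap (QuotientGroup.mk' N)) (hmap S)
      rw [Subgroup.comap_map_eq, Subgroup.comap_map_eq, QuotientGroup.ker_mk'] at h
      rw [← h]
      exact sup_le hS (le_inertia N (isIrr_lin N m).isClassFunction)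
    have hle : ⁅(P : Subgroup G) ⊔ N, N⁆ ≤ N := Subgroup.commutator_le_right _ _
    rcases hmin.2.2 _ inferInstance hle with h | h
    · rw [Subgroup.commutator_eq_bot_iff_le_centralizer] at h
      have hNH : N ≤ H := fun n hn => Subgroup.mem_normalizer_iff.2 fun x => by
        have hc : ∀ y ∈ (P : Subgroup G), n * y = y * n := fun y hy =>
          Subgroup.mem_centralizer_iff.1 (h (le_sup_left (a := (P : Subgroup G)) hy)) n hn
        constructor
        · intro hx
          rw [hc x hx]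
          simpa [mul_assoc] using hx
        · intro hx
          have e := hc _ hx
          have e1 : n * x * n⁻¹ = x := by
            have : n * (n * x * n⁻¹) = n * x := by rw [e]; group
            exact mul_left_cancel this
          rwa [e1] at hx
      rw [sup_of_le_right hNH] at hsup
      exact hPn (Subgroup.normalizer_eq_top_iff.1 hsup)
    · refine hm (MonoidHom.ext fun a => ?_)
      have key : ∀ y ∈ ⁅(P : Subgroup G) ⊔ N, N⁆, ∀ hy : y ∈ N, m ⟨y, hy⟩ = 1 := by
        intro y hy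
        rw [Subgroup.commutator_def] at hy
        induction hy using Subgroup.closure_induction with
        | mem x hx =>
          obtain ⟨t, ht, n, hn, rfl⟩ := hx
          intro hy
          have h1 := DFunLike.congr_fun ((mem_inertia_lin N).1 (hMT ht)) ⟨n, hn⟩
          have h2 : (⟨⁅t, n⁆, hy⟩ : N) = MulAut.conjNormal t ⟨n, hn⟩ * ⟨n, hn⟩⁻¹ :=
            Subtype.ext (by rw [Subgroup.coe_mul, MulAut.conjNormal_apply]; rfl)
          rw [h2, map_mul, map_inv, mul_inv_eq_one]
          exact h1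
        | one => intro hy; exact map_one m
        | mul x y hx hy ihx ihy =>
          intro hxy
          have hxN : x ∈ N := hle (by rw [Subgroup.commutator_def]; exact hx)
          have hyN : y ∈ N := hle (by rw [Subgroup.commutator_def]; exact hy)
          rw [show (⟨x * y, hxy⟩ : N) = ⟨x, hxN⟩ * ⟨y, hyN⟩ from rfl, map_mul, ihx hxN, ihy hyN,
            one_mul]
        | inv x hx ihx =>
          intro hxy
          have hxN : x ∈ N := hle (by rw [Subgroup.commutator_def]; exact hx)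
          rw [show (⟨x⁻¹, hxy⟩ : N) = ⟨x, hxN⟩⁻¹ from rfl, map_inv, ihx hxN, inv_one]
      exact key a (h.symm ▸ a.2) a.2
  have hcq : DualCover N H q := fun m hm =>
    exists_sylow_linear N H hdisj hsup m hB.hp hB.hpq hB.npq (hpT m hm)
  have hcr : DualCover N H r := fun m hm =>
    exists_sylow_linear N H hdisj hsup m hB.hp hB.hpr hB.npr (hpT m hm)
  have hnk : ∀ {s : ℕ} [Fact s.Prime], ¬ Lib.Block.DegreesPrimeTo s G → DualCover N H s →
      ∀ R : Sylow s H, ¬ (R : Subgroup H) ≤ (dualAct N H).ker := by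
    intro s _ hbad hc R hR
    obtain ⟨hRn, hRc⟩ := hc.normal hN hmin.2.1 R hR
    set R' := (R : Subgroup H).map H.subtype with hR'
    have hRN : ∀ x ∈ R', ∀ a ∈ N, x * a = a * x := by
      rintro _ ⟨x, hx, rfl⟩ a ha
      exact commute_of_ker N hN H (hR hx) ha
    have hM : (N ⊔ R').Normal := ⟨fun x hx g => by
      obtain ⟨a, ha, y, hy, rfl⟩ := Subgroup.mem_sup_of_normal_left.1 hx
      obtain ⟨n, hn, h, hh, rfl⟩ := Subgroup.mem_sup_of_normal_left.1
        (show g ∈ N ⊔ H by rw [hsup]; exact Subgroup.mem_top _)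
      obtain ⟨y₀, hy₀, rfl⟩ := hy
      have h1 : h * (y₀ : G) * h⁻¹ ∈ R' :=
        ⟨⟨h, hh⟩ * y₀ * ⟨h, hh⟩⁻¹, hRn.conj_mem y₀ hy₀ _, rfl⟩
      have h2 : n * h * (a * (y₀ : G)) * (n * h)⁻¹ =
          (n * (h * a * h⁻¹) * n⁻¹) * (h * (y₀ : G) * h⁻¹) := by
        have e : h * (y₀ : G) * h⁻¹ * n⁻¹ = n⁻¹ * (h * (y₀ : G) * h⁻¹) := hRN _ h1 _ (N.inv_mem hn)
        calc n * h * (a * (y₀ : G)) * (n * h)⁻¹
            = n * (h * a * h⁻¹) * (h * (y₀ : G) * h⁻¹ * n⁻¹) := by group
          _ = _ := by rw [e]; group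
      show n * h * (a * (y₀ : G)) * (n * h)⁻¹ ∈ N ⊔ R'
      rw [h2]
      exact Subgroup.mul_mem_sup (N.mul_mem (N.mul_mem hn (‹N.Normal›.conj_mem a ha h)) (N.inv_mem hn)) h1⟩
    have hMc : ∀ x ∈ N ⊔ R', ∀ y ∈ N ⊔ R', x * y = y * x := by
      intro x hx y hy
      obtain ⟨a, ha, b, hb, rfl⟩ := Subgroup.mem_sup_of_normal_left.1 hx
      obtain ⟨c, hc, d, hd, rfl⟩ := Subgroup.mem_sup_of_normal_left.1 hy
      obtain ⟨b₀, hb₀, rfl⟩ := hb
      obtain ⟨d₀, hd₀, rfl⟩ := hd
      have e1 := hRN (b₀ : G) ⟨b₀, hb₀, rfl⟩ c hc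
      have e2 := hRN (d₀ : G) ⟨d₀, hd₀, rfl⟩ a ha
      have e3 : (b₀ : G) * d₀ = d₀ * b₀ := congrArg Subtype.val (hRc b₀ hb₀ d₀ hd₀)
      show a * (b₀ : G) * (c * (d₀ : G)) = c * (d₀ : G) * (a * (b₀ : G))
      calc a * (b₀ : G) * (c * (d₀ : G)) = a * ((b₀ : G) * c) * d₀ := by group
        _ = a * (c * b₀) * d₀ := by rw [e1]
        _ = a * c * ((b₀ : G) * d₀) := by group
        _ = c * a * ((d₀ : G) * b₀) := by rw [e3, hcomm a ha c hc]
        _ = c * (a * (d₀ : G)) * b₀ := by group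
        _ = c * ((d₀ : G) * a) * b₀ := by rw [e2]
        _ = _ := by group
    have hidx : ¬ s ∣ (N ⊔ R').index := by
      have hNH : Subgroup.IsComplement' N H :=
        Subgroup.isComplement'_of_disjoint_and_mul_eq_univ (disjoint_iff.2 hdisj)
          (by rw [← Subgroup.normal_mul, hsup, Subgroup.coe_top])
      have hRidx : ¬ s ∣ (R : Subgroup H).index := R.not_dvd_index
      have hcard : Nat.card (N ⊔ R' : Subgroup G) = Nat.card N * Nat.card R' := by
        have hd : N ⊓ R' = ⊥ := eq_bot_iff.2 fun x hx =>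
          hdisj.le ⟨hx.1, Subgroup.map_subtype_le _ hx.2⟩
        have h : Subgroup.IsComplement' (N.subgroupOf (N ⊔ R')) (R'.subgroupOf (N ⊔ R')) := by
          refine Subgroup.isComplement'_of_disjoint_and_mul_eq_univ ?_ ?_
          · rw [disjoint_iff]
            refine eq_bot_iff.2 fun x hx => Subgroup.mem_bot.2 (Subtype.ext ?_)
            exact Subgroup.mem_bot.1 (hd.le (⟨hx.1, hx.2⟩ : (x : G) ∈ N ⊓ R'))
          · rw [← Subgroup.normal_mul, ← Subgroup.subgroupOf_sup le_sup_left le_sup_right,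
              Subgroup.subgroupOf_self, Subgroup.coe_top]
        rw [← h.card_mul, Nat.card_congr (Subgroup.subgroupOfEquivOfLe le_sup_left).toEquiv,
          Nat.card_congr (Subgroup.subgroupOfEquivOfLe le_sup_right).toEquiv]
      intro hd
      have h1 := (N ⊔ R').card_mul_index
      rw [hcard, ← hNH.card_mul, ← (R : Subgroup H).card_mul_index,
        Nat.card_congr ((R : Subgroup H).equivMapOfInjective H.subtype H.subtype_injective).toEquiv,
        mul_assoc] at h1
      exact hRidx (by rwa [Nat.eq_of_mul_eq_mul_left Nat.card_pos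
        (Nat.eq_of_mul_eq_mul_left Nat.card_pos h1)] at hd)
    exact hbad fun χ hd => hidx (hd.trans
      (degree_dvd_index_of_comm (N ⊔ R') hMc χ.2 χ.2.apply_one_eq_charDegree))
  exact hB.nqr (linked_of_dual hmin le_rfl hcomm hdisj hsup hexp hB.hqr hcq hcr (hnk hB.dq hcq)
    (hnk hB.dr hcr))

end Cfsg.Lib.Char.ThreePrime
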