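import Cfsg.Agent.Lib.Char.ThreePrime.TopData

/-!
# The normal Sylow subgroup links the other two primes
-/

set_option autoImplicit false
set_option linter.unusedSectionVars false
set_option linter.style.haveILetI false

universe u

namespace Cfsg.Lib.Char.ThreePrime

open Cfsg Cfsg.Lib.Char Cfsg.Lib.Char.RelDeg

variable {G : Type u} [Group G] [Finite G]

/-- The count of an invariant subgroup covered by Sylow subgroups. -/
theorem count_of_cover {H : Type u} [Group H] [Finite H] {r : ℕ} [Fact r.Prime] {X : Type u} [CommGroup X]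
    [Finite X] (φ : H →* MulAut X) (W : Subgroup X) (hW : ∀ h, ∀ w ∈ W, φ h w ∈ W) {p a : ℕ}
    (hp : p.Prime) (hcard : Nat.card W = p ^ a)
    (hcov : ∀ w ∈ W, w ≠ 1 → ∃ R : Sylow r H, (∀ g ∈ (R : Subgroup H), φ g w = w) ∧
      ∀ g, φ g w = w → g ∈ Subgroup.normalizer ((R : Subgroup H) : Set H)) :
    ∃ b ≤ a, p ^ a - 1 = Nat.card (Sylow r H) * (p ^ b - 1) := by
  classical
  letI : MulAction H W :=
    { smul := fun h w => ⟨φ h w, hW h w w.2⟩
      one_smul := fun w => Subtype.ext (show φ 1 (w : X) = w by rw [map_one]; rfl)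
      mul_smul := fun g h w => Subtype.ext (show φ (g * h) (w : X) = φ g (φ h w) by rw [map_mul]; rfl) }
  have ho : ∀ g : H, g • (1 : W) = 1 := fun g => Subtype.ext (map_one (φ g))
  have hcov' : Covered H r (1 : W) := fun w hw => by
    obtain ⟨R, h1, h2⟩ := hcov w w.2 fun e => hw (Subtype.ext e)
    exact ⟨R, fun g hg => Subtype.ext (h1 g hg), fun g hg => h2 g (congrArg Subtype.val hg)⟩
  let R₀ : Sylow r H := default
  let F : Subgroup W :=
    { carrier := {w | ∀ g ∈ (R₀ : Subgroup H), g • w = w}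
      one_mem' := fun g _ => ho g
      mul_mem' := fun {v w} hv hw g hg => Subtype.ext (by
        show φ g ((v : X) * w) = v * w
        rw [map_mul, show φ g (v : X) = v from congrArg Subtype.val (hv g hg),
          show φ g (w : X) = w from congrArg Subtype.val (hw g hg)])
      inv_mem' := fun {v} hv g hg => Subtype.ext (by
        show φ g (v : X)⁻¹ = (v : X)⁻¹
        rw [map_inv, show φ g (v : X) = v from congrArg Subtype.val (hv g hg)]) }
  have hF : Nat.card F ∣ p ^ a := hcard ▸ F.card_subgroup_dvd_card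
  obtain ⟨b, hba, hb⟩ := (Nat.dvd_prime_pow hp).1 hF
  refine ⟨b, hba, ?_⟩
  have h := card_eq_mul (1 : W) ho hcov' R₀
  rw [hcard] at h
  rw [h, ← hb]
  rfl

variable {p q r : ℕ} {P N H : Subgroup G} [hP : P.Normal] [hN : N.Normal] [Group.IsSolvable G]
  [Fintype G] [Fintype P] [Fintype N]

set_option maxHeartbeats 1000000 in
/-- The situation of three unlinked primes around the normal Sylow subgroup is impossible when a
Sylow subgroup of `H` acts trivially on the dual of `N` for one prime and not for the other. -/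
theorem Top.not_mixed [Fact q.Prime] [Fact r.Prime] (S : Top p P N H) (hp : p.Prime) (hpq : p ≠ q)
    (hpr : p ≠ r) (hqr : q ≠ r) (nqr : ¬ Linked q r G) (npq : ¬ Linked p q G) (npr : ¬ Linked p r G)
    (dq : ¬ Lib.Block.DegreesPrimeTo q G) (Q : Sylow q H) (hQ : (Q : Subgroup H) ≤ (dualAct N H).ker) :
    ∀ R : Sylow r H, (R : Subgroup H) ≤ (dualAct N H).ker := by
  classical
  by_contra hR
  push Not at hR
  haveI : Fact p.Prime := ⟨hp⟩
  have hNc := S.abelian
  haveI := finite_dual N hNc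
  haveI := nontrivial_dual N hNc S.min.2.1
  obtain ⟨hQn, hQc⟩ := (S.cover hp hpq npq).normal hNc S.min.2.1 Q hQ
  haveI : Subsingleton (Sylow q H) := by
    have := Sylow.unique_of_normal Q hQn
    infer_instance
  have hker : ∀ x ∈ (Q : Subgroup H), ∀ a ∈ N, (x : G) * a = a * x := fun x hx a ha =>
    commute_of_ker N hNc H (hQ hx) ha
  have hqP : ¬ q ∣ Nat.card P := fun h => by
    obtain ⟨k, hk⟩ := IsPGroup.iff_card.1 S.pp
    rw [hk] at h
    exact hpq ((Nat.prime_dvd_prime_iff_eq Fact.out hp).1 ((Fact.out : q.Prime).dvd_of_dvd_pow h)).symm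
  set A : Subgroup H := (Q : Subgroup H) with hA
  obtain ⟨x, hx, u, hu, hy⟩ := S.exists_commutator_notMem dq Q hQn hQc hker hqP
  set y : G := (x : G) * u * (x : G)⁻¹ * u⁻¹ with hydef
  have hyP : y ∈ P := P.mul_mem (hP.conj_mem u hu _) (P.inv_mem hu)
  -- the commutator with `y`
  have hbr : ∀ a ∈ P, ∀ b ∈ P, a * b * a⁻¹ * b⁻¹ ∈ N := fun a ha b hb => S.bracket_mem ha hb
  let f : P →* N :=
    { toFun := fun z => ⟨y * z * y⁻¹ * (z : G)⁻¹, hbr y hyP z z.2⟩
      map_one' := Subtype.ext (by simp)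
      map_mul' := fun a b => Subtype.ext (by
        show y * ((a : G) * b) * y⁻¹ * ((a : G) * b)⁻¹ =
          (y * a * y⁻¹ * (a : G)⁻¹) * (y * b * y⁻¹ * (b : G)⁻¹)
        have h := S.cent a a.2 _ (hbr y hyP b b.2)
        calc y * ((a : G) * b) * y⁻¹ * ((a : G) * b)⁻¹
            = (y * a * y⁻¹ * (a : G)⁻¹) * ((a : G) * (y * b * y⁻¹ * (b : G)⁻¹) * (a : G)⁻¹) := by group
          _ = _ := by rw [h, mul_inv_cancel_right]) }
  -- the centralised part is killed
  have hfK : ∀ z : P, (z : G) ∈ fixMod S A → f z = 1 := by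
    intro z hz
    have e1 : (z : G) * ((x : G) * u * (x : G)⁻¹) * (z : G)⁻¹ * ((x : G) * u * (x : G)⁻¹)⁻¹ =
        (z : G) * u * (z : G)⁻¹ * u⁻¹ := by
      have hxm : x⁻¹ ∈ A := A.inv_mem hx
      have hc1 : (x : G)⁻¹ * z * (x : G)⁻¹⁻¹ * (z : G)⁻¹ ∈ N := by
        simpa using hz.2 x⁻¹ hxm
      set n := (x : G)⁻¹ * z * (x : G)⁻¹⁻¹ * (z : G)⁻¹ with hn
      have hnu : n * u = u * n := (S.cent u hu n hc1).symm
      have hnz : n * z = z * n := (S.cent z z.2 n hc1).symm
      have hd : (z : G) * u * (z : G)⁻¹ * u⁻¹ ∈ N := hbr z z.2 u hu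
      calc (z : G) * ((x : G) * u * (x : G)⁻¹) * (z : G)⁻¹ * ((x : G) * u * (x : G)⁻¹)⁻¹
          = (x : G) * ((n * z) * u * (n * z)⁻¹ * u⁻¹) * (x : G)⁻¹ := by rw [hn]; group
        _ = (x : G) * ((z : G) * (n * u) * n⁻¹ * (z : G)⁻¹ * u⁻¹) * (x : G)⁻¹ := by rw [hnz]; group
        _ = (x : G) * ((z : G) * u * (z : G)⁻¹ * u⁻¹) * (x : G)⁻¹ := by rw [hnu]; group
        _ = _ := by rw [hker x hx _ hd]; group
    have hu' : (x : G) * u * (x : G)⁻¹ ∈ P := hP.conj_mem u hu _
    refine Subtype.ext ?_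
    show y * z * y⁻¹ * (z : G)⁻¹ = 1
    have e2 : (z : G) * y * (z : G)⁻¹ * y⁻¹ = 1 := by
      have h3 := S.cent _ hu' _ (hbr z z.2 u⁻¹ (P.inv_mem hu))
      have h4 := S.cent _ hu _ (hbr z z.2 u hu)
      have e3 : (z : G) * u⁻¹ * (z : G)⁻¹ * u⁻¹⁻¹ = ((z : G) * u * (z : G)⁻¹ * u⁻¹)⁻¹ := by
        calc (z : G) * u⁻¹ * (z : G)⁻¹ * u⁻¹⁻¹
            = u⁻¹ * ((z : G) * u * (z : G)⁻¹ * u⁻¹)⁻¹ * u := by group
          _ = _ := by
            rw [S.cent _ (P.inv_mem hu) _ (N.inv_mem (hbr z z.2 u hu)), inv_mul_cancel_right]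
      calc (z : G) * y * (z : G)⁻¹ * y⁻¹
          = ((z : G) * ((x : G) * u * (x : G)⁻¹) * (z : G)⁻¹ * ((x : G) * u * (x : G)⁻¹)⁻¹) *
            ((x : G) * u * (x : G)⁻¹ * ((z : G) * u⁻¹ * (z : G)⁻¹ * u⁻¹⁻¹) * ((x : G) * u * (x : G)⁻¹)⁻¹) := by
            rw [hydef]; group
        _ = 1 := by rw [h3, mul_inv_cancel_right, e1, e3, mul_inv_cancel]
    calc y * z * y⁻¹ * (z : G)⁻¹ = ((z : G) * y * (z : G)⁻¹ * y⁻¹)⁻¹ := by group
      _ = 1 := by rw [e2, inv_one]
  -- the linear characters trivial on the centralised part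
  set W : Subgroup (P →* ℂˣ) :=
    { carrier := {m | ∀ z : P, (z : G) ∈ fixMod S A → m z = 1}
      one_mem' := fun z _ => rfl
      mul_mem' := fun {a b} ha hb z hz => by rw [MonoidHom.mul_apply, ha z hz, hb z hz, one_mul]
      inv_mem' := fun {a} ha z hz => by rw [MonoidHom.inv_apply, ha z hz, inv_one] } with hWdef
  have hKconj : ∀ (h : H) (z : G), z ∈ fixMod S A → (h : G) * z * (h : G)⁻¹ ∈ fixMod S A := fun h z hz =>
    ⟨hP.conj_mem z hz.1 _, fun a ha => by
      have h1 := hz.2 (h⁻¹ * a * h⁻¹⁻¹) (hQn.conj_mem a ha h⁻¹)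
      have h2 := S.nn.conj_mem _ h1 (h : G)
      simpa [mul_assoc] using h2⟩
  have hWinv : ∀ h, ∀ m ∈ W, dualAct P H h m ∈ W := fun h m hm z hz =>
    hm _ (by
      show (MulAut.conjNormal (h : G)⁻¹ z : G) ∈ fixMod S A
      rw [MulAut.conjNormal_apply]
      simpa using hKconj h⁻¹ _ hz)
  haveI : Finite (P →* ℂˣ) := by
    haveI : Finite (Abelianization P) := Quotient.finite _
    exact Nat.finite_of_card_ne_zero (by
      rw [card_linear_eq_index]; exact Subgroup.index_ne_zero_of_finite)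
  have hcovW : ∀ m ∈ W, m ≠ 1 → ∃ R : Sylow r H, (∀ g ∈ (R : Subgroup H), dualAct P H g m = m) ∧
      ∀ g, dualAct P H g m = m → g ∈ Subgroup.normalizer ((R : Subgroup H) : Set H) := by
    intro m hm hm1
    have hqT : q ∣ (inertia P (lin m)).index := by
      by_contra hnd
      rw [← S.index_subgroupOf (le_inertia P (isIrr_lin P m).isClassFunction)] at hnd
      obtain ⟨Q', hQ'⟩ := exists_sylow_le _ hnd
      rw [Subsingleton.elim Q' Q] at hQ'
      exact hm1 (S.eq_one_of_fixed A m hm fun a ha => hQ' ha)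
    obtain ⟨R, h1, h2, -⟩ := exists_sylow_linear P H S.disj S.sup m Fact.out hqr nqr hqT
    exact ⟨R, h1, h2⟩
  -- the cardinalities
  obtain ⟨k, hk⟩ := IsPGroup.iff_card.1 S.pp
  have hKn : ((fixMod S A).subgroupOf P).Normal := ⟨fun a ha g => by
    have ha' := Subgroup.mem_subgroupOf.1 ha
    have e : (g : G) * a * (g : G)⁻¹ = ((g : G) * a * (g : G)⁻¹ * (a : G)⁻¹) * a := by group
    refine Subgroup.mem_subgroupOf.2 ?_
    show (g : G) * a * (g : G)⁻¹ ∈ _
    rw [e]
    exact (fixMod S A).mul_mem (le_fixMod S A (hbr g g.2 a a.2)) ha'⟩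
  set K' := (fixMod S A).subgroupOf P with hK'
  have hWcard : Nat.card W = K'.index := by
    letI : CommGroup (P ⧸ K') :=
      { (inferInstance : Group (P ⧸ K')) with
        mul_comm := fun a b => by
          induction a using QuotientGroup.induction_on with
          | _ a =>
            induction b using QuotientGroup.induction_on with
            | _ b =>
              rw [← QuotientGroup.mk_mul, ← QuotientGroup.mk_mul, QuotientGroup.eq]
              rw [show (a * b)⁻¹ * (b * a) = b⁻¹ * a⁻¹ * b⁻¹⁻¹ * a⁻¹⁻¹ by group]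
              exact le_fixMod S A (hbr _ (b⁻¹).2 _ (a⁻¹).2) }
    rw [Subgroup.index_eq_card, ← card_monoidHom_units (P ⧸ K')]
    exact Nat.card_congr
      { toFun := fun m => QuotientGroup.lift K' m.1 fun z hz => m.2 z (Subgroup.mem_subgroupOf.1 hz)
        invFun := fun m => ⟨m.comp (QuotientGroup.mk' K'), fun z hz => by
          show m (z : P ⧸ K') = 1
          rw [(QuotientGroup.eq_one_iff z).2 (Subgroup.mem_subgroupOf.2 hz), map_one]⟩
        left_inv := fun m => Subtype.ext (MonoidHom.ext fun z => rfl)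
        right_inv := fun m => MonoidHom.ext fun z => by
          induction z using QuotientGroup.induction_on with
          | H z => rfl }
  have hyK : (⟨y, hyP⟩ : P) ∉ K' := fun h => hy (Subgroup.mem_subgroupOf.1 h)
  obtain ⟨c, hck, hc⟩ := (Nat.dvd_prime_pow hp).1 (hk ▸ Subgroup.index_dvd_card K' : K'.index ∣ p ^ k)
  have hc0 : c ≠ 0 := fun h0 => hyK (by
    rw [h0, pow_zero, Subgroup.index_eq_one] at hc
    rw [hc]; exact Subgroup.mem_top _)
  obtain ⟨a, -, ha⟩ := (Nat.dvd_prime_pow hp).1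
    (hk ▸ Subgroup.card_dvd_of_le S.le : Nat.card N ∣ p ^ k)
  have ha0 : a ≠ 0 := fun h0 => S.min.2.1 (Subgroup.card_eq_one.1 (by rw [ha, h0, pow_zero]))
  -- the counts
  have hcovN := S.cover hp hpr npr
  obtain ⟨b, hb, hcount⟩ := count_of_cover (dualAct N H) ⊤ (fun _ _ _ => Subgroup.mem_top _) hp
    (a := a) (by rw [Subgroup.card_top, card_dual N hNc, ha]) (r := r) fun m _ hm =>
      (hcovN m hm).imp fun R h => ⟨h.1, h.2.1⟩
  obtain ⟨e, he, hcountW⟩ := count_of_cover (dualAct P H) W hWinv hp (a := c) (hWcard.trans hc) hcovW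
  set n := Nat.card (Sylow r H) with hn
  have hn1 : 1 < n := by
    by_contra h1
    have h2 : n = 1 := by
      have : 0 < n := Nat.card_pos
      omega
    haveI : Subsingleton (Sylow r H) := (Nat.card_eq_one_iff_unique.1 h2).1
    obtain ⟨R, hR'⟩ := hR
    refine hR' fun g hg => MonoidHom.mem_ker.2 (MulEquiv.ext fun m => ?_)
    by_cases hm : m = 1
    · subst hm
      exact map_one _
    · obtain ⟨R', h3, -⟩ := hcovN m hm
      rw [Subsingleton.elim R' R] at h3
      exact h3 g hg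
  have hlt : ∀ {a b : ℕ}, a ≠ 0 → b ≤ a → p ^ a - 1 = n * (p ^ b - 1) → b < a := by
    intro a b ha hb h
    refine lt_of_le_of_ne hb fun e => ?_
    subst e
    have := Nat.one_lt_pow ha hp.one_lt
    have h5 : 1 * (p ^ b - 1) < n * (p ^ b - 1) := (Nat.mul_lt_mul_right (by omega)).2 hn1
    omega
  have hac : a = c := exponent_eq hp (hlt ha0 hb hcount) (hlt hc0 he hcountW) hn1 hcount hcountW
  -- the commutator map is not surjective
  have hf : ¬ Function.Surjective f := by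
    intro hf
    have h1 : f.ker.index = K'.index := by
      rw [Subgroup.index_ker, MonoidHom.range_eq_top.2 hf, Subgroup.card_top, ha, hac, hc]
    have hle : K' ≤ f.ker := fun z hz => MonoidHom.mem_ker.2 (hfK z (Subgroup.mem_subgroupOf.1 hz))
    have h2 := Subgroup.relIndex_mul_index hle
    rw [h1] at h2
    have h3 : K'.relIndex f.ker = 1 :=
      Nat.eq_of_mul_eq_mul_right (Nat.pos_of_ne_zero Subgroup.index_ne_zero_of_finite)
        (h2.trans (one_mul _).symm)
    exact hyK (Subgroup.relIndex_eq_one.1 h3 (MonoidHom.mem_ker.2 (Subtype.ext (by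
      show y * y * y⁻¹ * y⁻¹ = 1
      group))))
  obtain ⟨w, hw⟩ : ∃ w : N, w ∉ f.range := by
    by_contra hall
    push Not at hall
    exact hf fun w => hall w
  obtain ⟨z, hz, hzw⟩ : ∃ z : N →* ℂˣ, (∀ a ∈ f.range, z a = 1) ∧ z w ≠ 1 := by
    haveI := hNc
    letI : CommGroup N := IsMulCommutative.instCommGroup
    haveI : NeZero (Monoid.exponent N) := ⟨Monoid.exponent_ne_zero_of_finite⟩
    by_contra hall
    push Not at hall
    exact hw ((CommGroup.forall_monoidHom_apply_eq_one_iff ℂ f.range w).1 hall)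
  have hz1 : z ≠ 1 := fun e => hzw (by rw [e]; rfl)
  obtain ⟨θ, hθN, -⟩ := S.exists_over (S₀ := ⊥) bot_le z fun s hs => by
    rw [Subgroup.mem_bot.1 hs]
    exact MonoidHom.ext fun a => congrArg z (Subtype.ext (by simp))
  have hθ1 := S.nonlinear hz1 hθN
  have hθy : (θ : P → ℂ) ⟨y, hyP⟩ ≠ 0 := apply_ne_zero_of_commutators θ.2 fun t => by
    have h := hθN (f t)
    rw [hz _ ⟨t, rfl⟩, Units.val_one, mul_one] at h
    exact h
  have fixes : ∀ φ : IrrCharacter P, (φ : P → ℂ) 1 ≠ 1 → ∀ g ∈ A, ((g : H) : G) ∈ inertia P (φ : P → ℂ) :=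
    fun φ hφ g hg => by
      obtain ⟨Q', hQ', -, -⟩ := S.sylow_of_nonlinear hp hpq npq φ hφ
      rw [Subsingleton.elim Q' Q] at hQ'
      exact hQ' hg
  refine hy ⟨hyP, fun g hg => ?_⟩
  by_contra hout
  have hgP : (g : G) * y * (g : G)⁻¹ * y⁻¹ ∈ P := P.mul_mem (hP.conj_mem y hyP _) (P.inv_mem hyP)
  obtain ⟨m, hm⟩ := S.exists_hom_ne_one (a := ⟨_, hgP⟩) hout
  refine hm ?_
  have h1 := (mem_inertia_iff P).1 (fixes θ hθ1 g hg) ⟨y, hyP⟩
  have h2 := (mem_inertia_iff P).1 (fixes ⟨_, isIrrCharacter_mul_linear θ.2 m⟩ (by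
    simpa using hθ1) g hg) ⟨y, hyP⟩
  simp only [Pi.mul_apply] at h2
  rw [h1] at h2
  have h3 : m ⟨(g : G) * y * (g : G)⁻¹, hP.conj_mem y hyP _⟩ = m ⟨y, hyP⟩ :=
    Units.ext (mul_left_cancel₀ hθy h2)
  rw [show (⟨(g : G) * y * (g : G)⁻¹ * y⁻¹, hgP⟩ : P) =
    ⟨(g : G) * y * (g : G)⁻¹, hP.conj_mem y hyP _⟩ * ⟨y, hyP⟩⁻¹ from rfl, map_mul, map_inv, h3,
    mul_inv_cancel]

set_option maxHeartbeats 1000000 in
/-- The normal Sylow subgroup links the two other primes. -/
theorem Top.linked [Fact q.Prime] [Fact r.Prime] (S : Top p P N H) (hB : Bad p q r G) : False := by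
  classical
  haveI : Fact p.Prime := ⟨hB.hp⟩
  have hNc := S.abelian
  have hcq := S.cover hB.hp hB.hpq hB.npq
  have hcr := S.cover hB.hp hB.hpr hB.npr
  by_cases hqk : ∀ Q : Sylow q H, ¬ (Q : Subgroup H) ≤ (dualAct N H).ker
  · by_cases hrk : ∀ R : Sylow r H, ¬ (R : Subgroup H) ≤ (dualAct N H).ker
    · exact hB.nqr (linked_of_dual S.min S.le S.cent S.disj S.sup S.exp hB.hqr hcq hcr hqk hrk)
    · push Not at hrk
      obtain ⟨R, hR⟩ := hrk
      exact hqk default (S.not_mixed hB.hp hB.hpr hB.hpq hB.hqr.symm (fun h => hB.nqr (linked_symm h))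
        hB.npr hB.npq hB.dr R hR default)
  push Not at hqk
  obtain ⟨Q, hQ⟩ := hqk
  have hR := S.not_mixed hB.hp hB.hpq hB.hpr hB.hqr hB.nqr hB.npq hB.npr hB.dq Q hQ
  let R : Sylow r H := default
  obtain ⟨k, hk⟩ := IsPGroup.iff_card.1 S.pp
  have moved : ∀ {s : ℕ} [Fact s.Prime], s ≠ p → ¬ Lib.Block.DegreesPrimeTo s G → DualCover N H s →
      ∀ T : Sylow s H, (T : Subgroup H) ≤ (dualAct N H).ker →
      ((T : Subgroup H).Normal) ∧
        ∃ m : P →* ℂˣ, ¬ ∀ g ∈ (T : Subgroup H), ((g : H) : G) ∈ inertia P (lin m) := by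
    intro s _ hsp hbad hc T hT
    obtain ⟨hn, hcomm⟩ := hc.normal hNc S.min.2.1 T hT
    refine ⟨hn, ?_⟩
    obtain ⟨x, hx, u, hu, hy⟩ := S.exists_commutator_notMem hbad T hn hcomm
      (fun x hx a ha => commute_of_ker N hNc H (hT hx) ha) fun h => by
        rw [hk] at h
        exact hsp ((Nat.prime_dvd_prime_iff_eq Fact.out hB.hp).1 ((Fact.out : s.Prime).dvd_of_dvd_pow h))
    have hyP : (x : G) * u * (x : G)⁻¹ * u⁻¹ ∈ P := P.mul_mem (hP.conj_mem u hu _) (P.inv_mem hu)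
    obtain ⟨m, hm⟩ := S.exists_hom_ne_one (a := ⟨_, hyP⟩) fun h => hy (le_fixMod S _ h)
    refine ⟨m, fun hall => hm ?_⟩
    have h := DFunLike.congr_fun ((mem_inertia_lin P).1 (hall x hx)) ⟨u, hu⟩
    rw [show (⟨(x : G) * u * (x : G)⁻¹ * u⁻¹, hyP⟩ : P) =
      MulAut.conjNormal (x : G) ⟨u, hu⟩ * ⟨u, hu⟩⁻¹ from Subtype.ext (by
        rw [Subgroup.coe_mul, MulAut.conjNormal_apply]; rfl), map_mul, map_inv, mul_inv_eq_one]
    exact h
  obtain ⟨hQn, m₁, hm₁⟩ := moved hB.hpq.symm hB.dq hcq Q hQ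
  obtain ⟨hRn, m₂, hm₂⟩ := moved hB.hpr.symm hB.dr hcr R (hR R)
  -- a character moved by both
  let Fix : Subgroup H → Subgroup (P →* ℂˣ) := fun A =>
    { carrier := {m | ∀ g ∈ A, ((g : H) : G) ∈ inertia P (lin m)}
      one_mem' := fun g _ => (mem_inertia_lin P).2 (MonoidHom.ext fun _ => rfl)
      mul_mem' := fun {a b} ha hb g hg => (mem_inertia_lin P).2 (MonoidHom.ext fun z => by
        show a _ * b _ = a z * b z
        rw [← DFunLike.congr_fun ((mem_inertia_lin P).1 (ha g hg)) z,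
          ← DFunLike.congr_fun ((mem_inertia_lin P).1 (hb g hg)) z]
        rfl)
      inv_mem' := fun {a} ha g hg => (mem_inertia_lin P).2 (MonoidHom.ext fun z => by
        show (a _)⁻¹ = (a z)⁻¹
        rw [← DFunLike.congr_fun ((mem_inertia_lin P).1 (ha g hg)) z]
        rfl) }
  obtain ⟨m, hm1, hm2⟩ : ∃ m, m ∉ Fix (Q : Subgroup H) ∧ m ∉ Fix (R : Subgroup H) := by
    by_contra hall
    push Not at hall
    have h1 : m₁ ∈ Fix (R : Subgroup H) := hall m₁ hm₁
    have h2 : m₂ ∈ Fix (Q : Subgroup H) := by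
      by_contra h
      exact hm₂ (hall m₂ h)
    by_cases h : m₁ * m₂ ∈ Fix (Q : Subgroup H)
    · have h3 := (Fix (Q : Subgroup H)).mul_mem h ((Fix (Q : Subgroup H)).inv_mem h2)
      rw [show m₁ * m₂ * m₂⁻¹ = m₁ from MonoidHom.ext fun z => mul_inv_cancel_right _ _] at h3
      exact hm₁ h3
    · have h3 := (Fix (R : Subgroup H)).mul_mem ((Fix (R : Subgroup H)).inv_mem h1) (hall _ h)
      rw [show m₁⁻¹ * (m₁ * m₂) = m₂ from MonoidHom.ext fun z => inv_mul_cancel_left _ _] at h3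
      exact hm₂ h3
  have dvdT : ∀ {s : ℕ} [Fact s.Prime] (T : Sylow s H), (T : Subgroup H).Normal →
      m ∉ Fix (T : Subgroup H) → s ∣ (inertia P (lin m)).index := by
    intro s _ T hn hmv
    haveI := Sylow.unique_of_normal T hn
    by_contra hnd
    rw [← S.index_subgroupOf (le_inertia P (isIrr_lin P m).isClassFunction)] at hnd
    obtain ⟨T', hT'⟩ := exists_sylow_le _ hnd
    rw [Subsingleton.elim T' T] at hT'
    exact hmv fun g hg => hT' hg
  let θ : IrrCharacter P := ⟨lin m, isIrr_lin P m⟩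
  obtain ⟨χ, hχ⟩ := Lib.Block.exists_over_deg P θ
  have h1 := index_inertia_dvd P hχ
  have hq : q ∣ (inertia P (lin m)).index := dvdT Q hQn hm1
  have hr : r ∣ (inertia P (lin m)).index := dvdT R hRn hm2
  have hθ : (θ : P → ℂ) = lin m := rfl
  rw [hθ] at h1
  exact hB.nqr (linked_of_dvd hB.hq hB.hr hB.hqr χ ((dvd_mul_of_dvd_left hq _).trans h1)
    ((dvd_mul_of_dvd_left hr _).trans h1))

end Cfsg.Lib.Char.ThreePrime
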