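import Cfsg.Agent.Lib.Char.Linear
import Cfsg.Agent.Lib.Char.RelDegree
import Mathlib.RepresentationTheory.Irreducible

/-!
# Characters on central elements
-/

set_option autoImplicit false
set_option linter.unusedSectionVars false
set_option linter.style.haveILetI false

universe u

namespace Cfsg.Lib.Char.ThreePrime

open Cfsg Cfsg.Lib.Char Cfsg.Lib.Char.RelDeg Representation

variable {M : Type u} [Group M] [Finite M] {n : ℕ}

/-- Schur's lemma. -/
theorem eq_smul_id_of_commute (ρ : Representation ℂ M (Fin n → ℂ)) [ρ.IsIrreducible]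
    (T : (Fin n → ℂ) →ₗ[ℂ] (Fin n → ℂ)) (h : ∀ g, T ∘ₗ ρ g = ρ g ∘ₗ T) :
    ∃ c : ℂ, T = c • LinearMap.id := by
  obtain ⟨c, hc⟩ := (IsIrreducible.algebraMap_intertwiningMap_bijective_of_isAlgClosed
    (ρ := ρ)).2 ⟨T, h⟩
  refine ⟨c, ?_⟩
  have h' := congrArg IntertwiningMap.toLinearMap hc
  exact h'.symm.trans rfl

/-- The restriction to a central subgroup is a multiple of the constituent. -/
theorem apply_of_central {χ : M → ℂ} (hχ : IsIrrCharacter M χ) {A : Type u} [Group A] [Fintype A]
    (f : A →* M) (hf : ∀ a g, f a * g = g * f a) (l : A →* ℂˣ)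
    (hc : classInner (fun a => χ (f a)) (fun a => (l a : ℂ)) ≠ 0) (a : A) :
    χ (f a) = χ 1 * (l a : ℂ) := by
  obtain ⟨m, ρ, hρ, rfl⟩ := hχ
  haveI := hρ
  have hs : ∀ a, ∃ c : ℂ, ρ (f a) = c • LinearMap.id := fun a => eq_smul_id_of_commute ρ _ fun g => by
    rw [← Module.End.mul_eq_comp, ← Module.End.mul_eq_comp, ← map_mul, ← map_mul, hf]
  choose c hc' using hs
  have h1 : ρ.character 1 ≠ 0 := (isIrrCharacter_character ρ).apply_one_ne_zero
  have hval : ∀ a, ρ.character (f a) = c a * ρ.character 1 := fun a => by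
    simp [Representation.character, hc', ← Module.End.one_eq_id]
  have hne : ∀ a b, c (a * b) = c a * c b := fun a b => by
    refine mul_right_cancel₀ h1 ?_
    rw [← hval, map_mul]
    simp [Representation.character, map_mul, hc', ← Module.End.one_eq_id, mul_assoc, mul_left_comm]
  have hone : c 1 = 1 := mul_right_cancel₀ h1 (by rw [← hval, map_one, one_mul])
  let L : A →* ℂˣ := MonoidHom.toHomUnits { toFun := c, map_one' := hone, map_mul' := hne }
  have hres : (fun a => ρ.character (f a)) = ρ.character 1 • fun a => (L a : ℂ) := funext fun a => by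
    rw [hval, Pi.smul_apply, smul_eq_mul, mul_comm]
    rfl
  have hL : L = l := by
    by_contra hne'
    refine hc ?_
    rw [hres, classInner_smul_left, classInner_irr_ne (isIrrCharacter_linear L) (isIrrCharacter_linear l)
      (fun e => hne' (linearChar_injective e)), mul_zero]
  rw [← hL]
  exact congrFun hres a

/-- An element whose commutators lie in the kernel has nonzero character value. -/
theorem apply_ne_zero_of_commutators {χ : M → ℂ} (hχ : IsIrrCharacter M χ) {y : M}
    (h : ∀ z, χ (y * z * y⁻¹ * z⁻¹) = χ 1) : χ y ≠ 0 := by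
  obtain ⟨m, ρ, hρ, rfl⟩ := hχ
  haveI := hρ
  have hk : ∀ z, ρ (y * z * y⁻¹ * z⁻¹) = 1 := fun z => by
    have h1 := (character_eq_finrank_iff ρ _).1 ((h z).trans (Representation.char_one ρ))
    exact h1.trans (Module.End.one_eq_id).symm
  obtain ⟨c, hc⟩ := eq_smul_id_of_commute ρ (ρ y) fun z => by
    rw [← Module.End.mul_eq_comp, ← Module.End.mul_eq_comp, ← map_mul, ← map_mul,
      show y * z = (y * z * y⁻¹ * z⁻¹) * (z * y) by group, map_mul, hk, one_mul]
  have hval : ρ.character y = c * ρ.character 1 := by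
    simp [Representation.character, hc, ← Module.End.one_eq_id]
  have h1 : ρ.character 1 ≠ 0 := (isIrrCharacter_character ρ).apply_one_ne_zero
  rw [hval]
  refine mul_ne_zero (fun h0 => h1 ?_) h1
  have hy : ρ (y * y⁻¹) = 0 := by rw [map_mul, hc, h0, zero_smul, zero_mul]
  rw [mul_inv_cancel] at hy
  show LinearMap.trace ℂ _ (ρ 1) = 0
  rw [hy, map_zero]

end Cfsg.Lib.Char.ThreePrime
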