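import Cfsg.Agent.Lib.Char.RelDegree
import Cfsg.Agent.Lib.Char.Clifford2
import Cfsg.Agent.Lib.Char.Gallagher
import Cfsg.Agent.Lib.Char.Quotient
import Cfsg.Agent.Lib.Block.DegreesPrime
import Cfsg.Agent.Lib.Core.PSolvable

/-!
# Degrees over a character with an extension to its inertia group
-/

set_option autoImplicit false
set_option linter.unusedSectionVars false
set_option linter.style.haveILetI false

universe u

namespace Cfsg.Lib.Char.ThreePrime

open Cfsg Cfsg.Lib.Char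

variable {G : Type u} [Group G]

/-- Some degree is divisible by both primes. -/
def Linked (p q : ℕ) (G : Type u) [Group G] : Prop := ∃ χ : IrrCharacter G, p * q ∣ charDegree (χ : G → ℂ)

theorem linked_symm {p q : ℕ} (h : Linked p q G) : Linked q p G := by
  unfold Linked at h ⊢
  rwa [mul_comm]

theorem linked_of_dvd {p q : ℕ} (hp : p.Prime) (hq : q.Prime) (hne : p ≠ q) (χ : IrrCharacter G)
    (h1 : p ∣ charDegree (χ : G → ℂ)) (h2 : q ∣ charDegree (χ : G → ℂ)) : Linked p q G :=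
  ⟨χ, ((Nat.coprime_primes hp hq).2 hne).mul_dvd_of_dvd_of_dvd h1 h2⟩

theorem linked_of_surjective [Finite G] {H : Type u} [Group H] {p q : ℕ} (f : G →* H)
    (hf : Function.Surjective f) (h : Linked p q H) : Linked p q G := by
  obtain ⟨χ, hχ⟩ := h
  refine ⟨⟨fun g => (χ : H → ℂ) (f g), χ.2.comp_surjective f hf⟩, ?_⟩
  simpa [charDegree] using hχ

theorem degreesPrimeTo_equiv {H : Type u} [Group H] {q : ℕ} (e : H ≃* G) (h : Lib.Block.DegreesPrimeTo q G) :
    Lib.Block.DegreesPrimeTo q H := by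
  intro χ hd
  refine h ⟨fun g => (χ : H → ℂ) (e.symm g), isIrrCharacter_comp_equiv e.symm χ.2⟩ ?_
  simpa [charDegree] using hd

/-- A finite solvable group with all degrees prime to `q` has a normal abelian Sylow subgroup. -/
theorem exists_sylow_of_degreesPrimeTo [Finite G] [Group.IsSolvable G] {q : ℕ} [Fact q.Prime]
    (h : Lib.Block.DegreesPrimeTo q G) (Q : Sylow q G) :
    (Q : Subgroup G).Normal ∧ ∀ a ∈ (Q : Subgroup G), ∀ b ∈ (Q : Subgroup G), a * b = b * a :=
  (Lib.Block.sylow_normal_comm_iff Cfsg.Lib.Core.isPSolvable_of_isSolvable Q).2 h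

theorem degreesPrimeTo_of_sylow [Finite G] [Group.IsSolvable G] {q : ℕ} [Fact q.Prime] (Q : Sylow q G)
    (hn : (Q : Subgroup G).Normal) (hc : ∀ a ∈ (Q : Subgroup G), ∀ b ∈ (Q : Subgroup G), a * b = b * a) :
    Lib.Block.DegreesPrimeTo q G :=
  (Lib.Block.sylow_normal_comm_iff Cfsg.Lib.Core.isPSolvable_of_isSolvable Q).1 ⟨hn, hc⟩

variable [Fintype G] (K : Subgroup G) [hK : K.Normal] [Fintype K]

/-- The orbit length and the degree below divide the degree. -/
theorem index_inertia_dvd {θ : IrrCharacter K} {χ : IrrCharacter G}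
    (hc : classInner (fun x : K => (χ : G → ℂ) x) (θ : K → ℂ) ≠ 0) :
    (inertia K (θ : K → ℂ)).index * charDegree (θ : K → ℂ) ∣ charDegree (χ : G → ℂ) := by
  have h := clifford_degree K χ.2 θ.2 hc
  obtain ⟨n, hn⟩ := (χ.2.isCharacter.comp K.subtype).exists_nat_classInner θ.2.isCharacter
  have hn' : classInner (fun x : K => (χ : G → ℂ) x) (θ : K → ℂ) = n := hn
  rw [hn', χ.2.apply_one_eq_charDegree, θ.2.apply_one_eq_charDegree, ← Nat.cast_mul, ← Nat.cast_mul,
    Nat.cast_inj] at h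
  exact ⟨n, by rw [h]; ring⟩

/-- Gallagher and induction: characters from those of the quotient of the inertia group. -/
theorem exists_char_of_extension {θ : IrrCharacter K} {T : Subgroup G} [Fintype T]
    (hT : T = inertia K (θ : K → ℂ)) (hKT : K ≤ T) {η : T → ℂ} (hη : IsIrrCharacter T η)
    (hres : ∀ x : K, η ⟨x, hKT x.2⟩ = (θ : K → ℂ) x) (β : IrrCharacter (T ⧸ K.subgroupOf T)) :
    ∃ χ : IrrCharacter G, classInner (fun x : K => (χ : G → ℂ) x) (θ : K → ℂ) ≠ 0 ∧
      charDegree (χ : G → ℂ) =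
        T.index * (charDegree (β : T ⧸ K.subgroupOf T → ℂ) * charDegree (θ : K → ℂ)) := by
  classical
  haveI : Fintype (K.subgroupOf T) := Fintype.ofFinite _
  set β' : T → ℂ := fun t => (β : T ⧸ K.subgroupOf T → ℂ) t with hβ'
  have hβ'irr : IsIrrCharacter T β' := isIrrCharacter_inflate _ β.2
  have hone : ((fun _ => 1) * resTo K (θ : K → ℂ) T) = resTo K (θ : K → ℂ) T := by
    funext x; simp
  have hresTo : ∀ x : K.subgroupOf T, η x = resTo K (θ : K → ℂ) T x := fun x =>
    (hres ⟨(x : T), Subgroup.mem_subgroupOf.1 x.2⟩)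
  have hinv : ∀ t : T, conjTwist (K.subgroupOf T) (resTo K (θ : K → ℂ) T) t = resTo K (θ : K → ℂ) T := by
    intro t
    funext x
    rw [conjTwist_apply, ← hresTo, ← hresTo]
    exact hη.isCharacter.conj_invariant (x : T) t
  have hbij := gallagher_bijOn (K.subgroupOf T) (φ := fun _ => 1) (ϑ := resTo K (θ : K → ℂ) T)
    isIrrCharacter_one (fun t => rfl) hinv (hone.symm ▸ isIrrCharacter_resTo K θ.2 hKT) hη.isCharacter hresTo
  have hmem : β' ∈ {b : T → ℂ | IsIrrCharacter T b ∧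
      classInner (indFun (K.subgroupOf T) (fun _ => 1)) b ≠ 0} := by
    refine ⟨hβ'irr, ?_⟩
    rw [classInner_indFun _ _ hβ'irr.isClassFunction]
    have : (fun h : K.subgroupOf T => β' h) = β' 1 • (fun _ : K.subgroupOf T => (1 : ℂ)) := by
      funext h
      have h1 : ((h : T) : T ⧸ K.subgroupOf T) = 1 := (QuotientGroup.eq_one_iff (h : T)).2 h.2
      simp [hβ', h1]
    rw [this, classInner_smul_right, classInner_irr_self isIrrCharacter_one, mul_one]
    simpa using hβ'irr.apply_one_ne_zero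
  have hψ := (hbij.mapsTo hmem).1
  have hψK : (fun h : K => (β' * η) ⟨h, hKT h.2⟩) = β' 1 • (θ : K → ℂ) := by
    funext h
    have h1 : ((⟨h, hKT h.2⟩ : T) : T ⧸ K.subgroupOf T) = 1 :=
      (QuotientGroup.eq_one_iff _).2 (Subgroup.mem_subgroupOf.2 h.2)
    simp [hβ', h1, hres]
  have hne : classInner (fun h : K => (β' * η) ⟨h, hKT h.2⟩) (θ : K → ℂ) ≠ 0 := by
    rw [hψK, classInner_smul_left, classInner_irr_self θ.2, mul_one]
    exact hβ'irr.apply_one_ne_zero
  obtain ⟨hχ, hover⟩ := clifford_induce K θ.2 hKT hT hψ hne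
  refine ⟨⟨_, hχ⟩, fun h => hne (hover ▸ h), ?_⟩
  have h1 : indFun T (β' * η) 1 = ((T.index * (charDegree (β : T ⧸ K.subgroupOf T → ℂ) *
      charDegree (θ : K → ℂ)) : ℕ) : ℂ) := by
    rw [indFun_apply_one]
    push_cast
    have h2 : η 1 = (θ : K → ℂ) 1 := hres 1
    show (T.index : ℂ) * (β' 1 * η 1) = _
    rw [h2, θ.2.apply_one_eq_charDegree,
      show β' 1 = (β : T ⧸ K.subgroupOf T → ℂ) 1 from rfl, β.2.apply_one_eq_charDegree]
  have h3 := hχ.apply_one_eq_charDegree
  rw [h1, Nat.cast_inj] at h3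
  exact h3.symm

/-- The Sylow subgroup of a complement in a stabiliser avoiding a prime. -/
theorem exists_sylow_stabilizer [Group.IsSolvable G] (H : Subgroup G) (hdisj : K ⊓ H = ⊥)
    (hsup : K ⊔ H = ⊤) {θ : IrrCharacter K} {T : Subgroup G} [Fintype T] (hT : T = inertia K (θ : K → ℂ))
    {η : T → ℂ} (hη : IsIrrCharacter T η)
    (hres : ∀ (x : K) (hx : (x : G) ∈ T), η ⟨x, hx⟩ = (θ : K → ℂ) x)
    {q : ℕ} [Fact q.Prime]
    (hq : ∀ χ : IrrCharacter G, classInner (fun x : K => (χ : G → ℂ) x) (θ : K → ℂ) ≠ 0 →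
      ¬ q ∣ charDegree (χ : G → ℂ))
    (hd : ¬ q ∣ charDegree (θ : K → ℂ)) :
    ∃ Q : Sylow q H, (Q : Subgroup H) ≤ T.subgroupOf H ∧
      T.subgroupOf H ≤ Subgroup.normalizer ((Q : Subgroup H) : Set H) ∧
      ∀ a ∈ (Q : Subgroup H), ∀ b ∈ (Q : Subgroup H), a * b = b * a := by
  classical
  have hKT : K ≤ T := hT.symm ▸ le_inertia K θ.2.isClassFunction
  obtain ⟨χ₀, hχ₀⟩ := Lib.Block.exists_over_deg K θ
  have hidx : ¬ q ∣ T.index := fun h => hq χ₀ hχ₀
    (dvd_trans (dvd_mul_of_dvd_left h _) (hT.symm ▸ index_inertia_dvd K hχ₀))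
  have hdeg : Lib.Block.DegreesPrimeTo q (T ⧸ K.subgroupOf T) := by
    intro β hβ
    obtain ⟨χ, hχ, hdeg⟩ := exists_char_of_extension K hT hKT hη (fun x => hres x (hKT x.2)) β
    exact hq χ hχ (hdeg ▸ dvd_mul_of_dvd_right (dvd_mul_of_dvd_left hβ _) _)
  -- identify the quotient with the stabiliser in the complement
  set S := T.subgroupOf H with hS
  let f : S →* T ⧸ K.subgroupOf T :=
    (QuotientGroup.mk' _).comp
      { toFun := fun s => (⟨((s : H) : G), s.2⟩ : T)
        map_one' := rfl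
        map_mul' := fun _ _ => rfl }
  have hfinj : Function.Injective f := by
    rw [injective_iff_map_eq_one]
    intro s hs
    have h1 : ((s : H) : G) ∈ K := Subgroup.mem_subgroupOf.1 ((QuotientGroup.eq_one_iff (⟨((s : H) : G), s.2⟩ : T)).1 hs)
    have h2 : ((s : H) : G) ∈ K ⊓ H := ⟨h1, (s : H).2⟩
    rw [hdisj, Subgroup.mem_bot] at h2
    exact Subtype.ext (Subtype.ext h2)
  have hfsurj : Function.Surjective f := by
    intro t
    induction t using QuotientGroup.induction_on with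
    | H t =>
      obtain ⟨k, hk, h, hh, hkh⟩ := Subgroup.mem_sup_of_normal_left.1
        (show (t : G) ∈ K ⊔ H by rw [hsup]; exact Subgroup.mem_top _)
      have hhT : h ∈ T := by
        rw [show h = k⁻¹ * (t : G) by rw [← hkh, inv_mul_cancel_left]]
        exact T.mul_mem (T.inv_mem (hKT hk)) t.2
      refine ⟨⟨⟨h, hh⟩, hhT⟩, QuotientGroup.eq.2 (Subgroup.mem_subgroupOf.2 ?_)⟩
      show h⁻¹ * (t : G) ∈ K
      have := hK.conj_mem k hk h⁻¹
      rw [← hkh]
      simpa [mul_assoc] using this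
  have hSdeg := degreesPrimeTo_equiv (MulEquiv.ofBijective f ⟨hfinj, hfsurj⟩) hdeg
  obtain ⟨hn, hc⟩ := exists_sylow_of_degreesPrimeTo hSdeg (default : Sylow q S)
  -- the index of the stabiliser is prime to `q`
  have hSidx : S.index = T.index := by
    have h1 : T ⊔ H = ⊤ := by
      rw [eq_top_iff, ← hsup]
      exact sup_le_sup_right hKT _
    have h2 : Nat.card H = Nat.card S * S.index := (S.card_mul_index).symm
    have h3 : Nat.card T = Nat.card (T ⧸ K.subgroupOf T) * Nat.card (K.subgroupOf T) :=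
      Subgroup.card_eq_card_quotient_mul_card_subgroup _
    rw [← Nat.card_congr (MulEquiv.ofBijective f ⟨hfinj, hfsurj⟩).toEquiv,
      Nat.card_congr (Subgroup.subgroupOfEquivOfLe hKT).toEquiv] at h3
    have h4 : Nat.card G = Nat.card H * Nat.card K := by
      have hc : Subgroup.IsComplement' K H :=
        Subgroup.isComplement'_of_disjoint_and_mul_eq_univ (disjoint_iff.2 hdisj)
          (by rw [← Subgroup.normal_mul, hsup, Subgroup.coe_top])
      rw [← hc.card_mul, mul_comm]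
    have h5 := T.card_mul_index
    rw [h3, h4, h2] at h5
    have hpos : 0 < Nat.card S * Nat.card K := Nat.mul_pos Nat.card_pos Nat.card_pos
    refine (Nat.eq_of_mul_eq_mul_left hpos ?_).symm
    rw [h5]; ring
  let Q₀ : Sylow q S := default
  have hcard : Nat.card ((Q₀ : Subgroup S).map S.subtype) = q ^ (Nat.card H).factorization q := by
    rw [Nat.card_congr ((Q₀ : Subgroup S).equivMapOfInjective S.subtype S.subtype_injective).symm.toEquiv,
      Sylow.card_eq_multiplicity, ← S.card_mul_index, Nat.factorization_mul Nat.card_pos.ne'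
        Subgroup.index_ne_zero_of_finite, Finsupp.add_apply,
      Nat.factorization_eq_zero_of_not_dvd (n := S.index) (by rw [hSidx]; exact hidx), add_zero]
  refine ⟨Sylow.ofCard _ hcard, ?_, ?_, ?_⟩
  · rw [Sylow.coe_ofCard]
    rintro _ ⟨s, -, rfl⟩
    exact s.2
  · rw [Sylow.coe_ofCard]
    intro s hs
    rw [Subgroup.mem_normalizer_iff]
    intro x
    haveI := hn
    constructor
    · rintro ⟨y, hy, rfl⟩
      exact ⟨⟨s, hs⟩ * y * ⟨s, hs⟩⁻¹, hn.conj_mem y hy _, rfl⟩
    · rintro ⟨y, hy, hye⟩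
      refine ⟨⟨s, hs⟩⁻¹ * y * ⟨s, hs⟩⁻¹⁻¹, hn.conj_mem y hy _, ?_⟩
      have hye' : (y : H) = s * x * s⁻¹ := hye
      show s⁻¹ * (y : H) * s⁻¹⁻¹ = x
      rw [hye']; group
  · rw [Sylow.coe_ofCard]
    rintro _ ⟨a, ha, rfl⟩ _ ⟨b, hb, rfl⟩
    exact congrArg Subtype.val (hc a ha b hb)

end Cfsg.Lib.Char.ThreePrime
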