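import Mathlib.GroupTheory.Sylow
import Mathlib.Tactic

/-!
# Counting points through Sylow subgroups that are normal in the stabilisers
-/

set_option autoImplicit false

namespace Cfsg.Lib.Char.ThreePrime

variable {G : Type*} [Group G] [Finite G] {X : Type*} [MulAction G X]

/-- Every point other than `o` is fixed by a Sylow subgroup that is normal in its stabiliser. -/
def Covered (G : Type*) [Group G] {X : Type*} [MulAction G X] (q : ℕ) (o : X) : Prop :=
  ∀ x : X, x ≠ o → ∃ Q : Sylow q G, (Q : Subgroup G) ≤ MulAction.stabilizer G x ∧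
    MulAction.stabilizer G x ≤ Subgroup.normalizer ((Q : Subgroup G) : Set G)

variable {q : ℕ} [Fact q.Prime]

/-- A Sylow subgroup fixing a covered point is unique. -/
theorem eq_of_fixes {x : X} {Q Q' : Sylow q G}
    (hN : MulAction.stabilizer G x ≤ Subgroup.normalizer ((Q : Subgroup G) : Set G))
    (hQ' : (Q' : Subgroup G) ≤ MulAction.stabilizer G x) : Q' = Q := by
  have h := hQ'.trans hN
  haveI : ((Q.subtype Subgroup.le_normalizer : Sylow q ↥(Subgroup.normalizer ((Q : Subgroup G) : Set G))) :
      Subgroup ↥(Subgroup.normalizer ((Q : Subgroup G) : Set G))).Normal :=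
    Subgroup.normal_in_normalizer
  have := Sylow.unique_of_normal _ ‹_›
  exact Sylow.subtype_injective (hP := h) (hQ := Subgroup.le_normalizer) (Subsingleton.elim _ _)

/-- The number of points is a multiple of the number of Sylow subgroups. -/
theorem card_eq_mul [Finite X] (o : X) (ho : ∀ g : G, g • o = o) (hcov : Covered G q o) (Q₀ : Sylow q G) :
    Nat.card X - 1 = Nat.card (Sylow q G) *
      (Nat.card {x : X // ∀ g ∈ (Q₀ : Subgroup G), g • x = x} - 1) := by
  classical
  haveI := Fintype.ofFinite X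
  choose S hS1 hS2 using hcov
  let f : {x : X // x ≠ o} → Sylow q G := fun x => S x.1 x.2
  have hf : ∀ (x : {x : X // x ≠ o}) (Q : Sylow q G),
      f x = Q ↔ ∀ g ∈ (Q : Subgroup G), g • (x : X) = x := by
    intro x Q
    constructor
    · rintro rfl g hg
      exact hS1 x.1 x.2 hg
    · intro h
      exact (eq_of_fixes (hS2 x.1 x.2) fun g hg => h g hg).symm
  have hfib : ∀ Q : Sylow q G, Nat.card {x : {x : X // x ≠ o} // f x = Q} =
      Nat.card {x : X // ∀ g ∈ (Q₀ : Subgroup G), g • x = x} - 1 := by
    intro Q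
    obtain ⟨c, hc⟩ := MulAction.exists_smul_eq G Q₀ Q
    have hmem : ∀ g : G, g ∈ (Q : Subgroup G) ↔ c⁻¹ * g * c ∈ (Q₀ : Subgroup G) := by
      intro g
      rw [← hc, Sylow.coe_subgroup_smul, Subgroup.mem_pointwise_smul_iff_inv_smul_mem]
      simp [MulAut.smul_def, mul_assoc]
    have he : {x : {x : X // x ≠ o} // f x = Q} ≃
        {x : {x : X // ∀ g ∈ (Q₀ : Subgroup G), g • x = x} // x.1 ≠ o} :=
      { toFun := fun x => ⟨⟨c⁻¹ • (x.1 : X), fun g hg => by
            have h := (hf x.1 Q).1 x.2 (c * g * c⁻¹) ((hmem _).2 (by simpa [mul_assoc] using hg))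
            rw [← mul_smul, eq_inv_smul_iff, ← mul_smul, ← mul_assoc]
            exact h⟩, fun e => x.1.2 (by
              have h1 := congrArg (c • ·) e
              simpa [ho] using h1)⟩
        invFun := fun x => ⟨⟨c • (x.1 : X), fun e => x.2 (by
              have h1 := congrArg (c⁻¹ • ·) e
              simpa [ho] using h1)⟩, (hf _ Q).2 fun g hg => by
            have h := x.1.2 _ ((hmem g).1 hg)
            show g • c • (x.1 : X) = c • (x.1 : X)
            conv_rhs => rw [← h]
            rw [← mul_smul, ← mul_smul]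
            congr 1
            group⟩
        left_inv := fun x => Subtype.ext (Subtype.ext (smul_inv_smul c _))
        right_inv := fun x => Subtype.ext (Subtype.ext (inv_smul_smul c _)) }
    rw [Nat.card_congr he, Nat.card_eq_fintype_card, Fintype.card_subtype_compl, ← Nat.card_eq_fintype_card]
    congr 1
    rw [Fintype.card_eq_one_iff]
    exact ⟨⟨⟨o, fun g _ => ho g⟩, rfl⟩, fun y => Subtype.ext (Subtype.ext y.2)⟩
  calc Nat.card X - 1 = Nat.card {x : X // x ≠ o} := by
        rw [Nat.card_eq_fintype_card, Nat.card_eq_fintype_card, Fintype.card_subtype_compl,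
          Fintype.card_subtype_eq]
    _ = _ := by
        rw [Nat.card_congr ((Equiv.sigmaFiberEquiv f).symm.trans
          ((Equiv.sigmaCongrRight fun Q => Classical.choice (Finite.card_eq.1
            ((hfib Q).trans (Nat.card_fin _).symm))).trans (Equiv.sigmaEquivProd _ _))),
          Nat.card_prod, Nat.card_fin]

/-- The exponent in the count is determined by the number of Sylow subgroups. -/
theorem exponent_eq {p n a b c e : ℕ} (hp : p.Prime) (hb : b < a) (he : e < c) (hn : 1 < n)
    (h1 : p ^ a - 1 = n * (p ^ b - 1)) (h2 : p ^ c - 1 = n * (p ^ e - 1)) : a = c := by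
  have key : ∀ {a b : ℕ}, b < a → p ^ a - 1 = n * (p ^ b - 1) →
      p ^ b ∣ n - 1 ∧ ¬ p ^ (b + 1) ∣ n - 1 ∧ 0 < b := by
    intro a b hb h
    have hb0 : 0 < b := by
      by_contra h0
      have hb' : b = 0 := by omega
      rw [hb', pow_zero, Nat.sub_self, mul_zero] at h
      have := Nat.one_lt_pow (n := a) (by omega) hp.one_lt
      omega
    have heq : (n - 1) * (p ^ b - 1) = p ^ b * (p ^ (a - b) - 1) := by
      rw [Nat.sub_mul, one_mul, ← h, Nat.mul_sub, mul_one, ← pow_add, Nat.add_sub_cancel' hb.le]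
      have := Nat.pow_le_pow_right hp.pos hb.le
      have := Nat.one_le_pow b p hp.pos
      omega
    have hcop : (p ^ b).Coprime (p ^ b - 1) := by
      rw [Nat.coprime_self_sub_right (Nat.one_le_pow _ _ hp.pos)]
      exact Nat.coprime_one_right _
    refine ⟨hcop.dvd_of_dvd_mul_right (heq ▸ dvd_mul_right _ _), fun hd => ?_, hb0⟩
    have h3 : p ^ b * p ∣ p ^ b * (p ^ (a - b) - 1) := heq ▸ dvd_mul_of_dvd_left (pow_succ p b ▸ hd) _
    have h4 := Nat.dvd_of_mul_dvd_mul_left (pow_pos hp.pos b) h3
    have h5 := Nat.dvd_sub (dvd_pow_self p (by omega : a - b ≠ 0)) h4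
    rw [Nat.sub_sub_self (Nat.one_le_pow _ _ hp.pos)] at h5
    exact hp.one_lt.ne' (Nat.dvd_one.1 h5)
  obtain ⟨hb1, hb2, hb0⟩ := key hb h1
  obtain ⟨he1, he2, he0⟩ := key he h2
  have hbe : b = e := by
    rcases Nat.lt_trichotomy b e with h | h | h
    · exact absurd ((pow_dvd_pow p h).trans he1) hb2
    · exact h
    · exact absurd ((pow_dvd_pow p h).trans hb1) he2
  rw [← hbe, ← h1] at h2
  have h3 : p ^ c = p ^ a := by
    have := Nat.one_le_pow c p hp.pos
    have := Nat.one_le_pow a p hp.pos
    omega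
  exact (Nat.pow_right_injective hp.two_le h3).symm

end Cfsg.Lib.Char.ThreePrime
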