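import Cfsg.Agent.Lib.Char.ThreePrime.LinearMain
import Cfsg.Agent.Lib.Char.ThreePrime.Chars
import Cfsg.Agent.Lib.Char.FixedChar
import Cfsg.Agent.Lib.Char.RamifiedSolvable.Dual

/-!
# Linked primes from an irreducible action covered by Sylow subgroups
-/

set_option autoImplicit false
set_option linter.unusedSectionVars false
set_option linter.style.haveILetI false

universe u

namespace Cfsg.Lib.Char.ThreePrime

open Cfsg Cfsg.Lib.Char Cfsg.Lib.Char.RelDeg

variable {G : Type u} [Group G] [Finite G]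

/-- A faithful linear character of a self-centralising cyclic normal subgroup induces to an
irreducible character whose degree is the index. -/
theorem linked_of_selfCentral (A : Subgroup G) [A.Normal] (hA : IsCyclic A)
    (hc : Subgroup.centralizer (A : Set G) = A) {r t : ℕ} (hr : r.Prime) (ht : t.Prime) (hrt : r ≠ t)
    (h1 : r ∣ A.index) (h2 : t ∣ A.index) : Linked r t G := by
  classical
  letI := Fintype.ofFinite G
  obtain ⟨g, hg⟩ := IsCyclic.exists_generator (α := A)
  have hn : orderOf g ≠ 0 := (orderOf_pos g).ne'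
  have hz := Complex.isPrimitiveRoot_exp (orderOf g) hn
  obtain ⟨z, hzval⟩ := hz.isUnit hn
  have hz' : IsPrimitiveRoot z (orderOf g) := IsPrimitiveRoot.coe_units_iff.1 (hzval.symm ▸ hz)
  set L : A →* ℂˣ := monoidHomOfForallMemZpowers hg hz'.eq_orderOf.symm.dvd with hL
  have hLinj : Function.Injective L := by
    rw [injective_iff_map_eq_one]
    intro x hx
    obtain ⟨k, rfl⟩ := Subgroup.mem_zpowers_iff.1 (hg x)
    rw [map_zpow, hL, monoidHomOfForallMemZpowers_apply_gen, ← orderOf_dvd_iff_zpow_eq_one,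
      ← hz'.eq_orderOf] at hx
    exact orderOf_dvd_iff_zpow_eq_one.1 hx
  have hI : inertia A (lin L) = A := by
    refine le_antisymm (fun x hx => ?_) (le_inertia A (isIrr_lin A L).isClassFunction)
    rw [← hc]
    rw [mem_inertia_lin] at hx
    refine Subgroup.mem_centralizer_iff.2 fun a ha => ?_
    have h : (MulAut.conjNormal x ⟨a, ha⟩ : A) = ⟨a, ha⟩ := hLinj (DFunLike.congr_fun hx ⟨a, ha⟩)
    have h' : x * a * x⁻¹ = a := by
      have := congrArg Subtype.val h
      rwa [MulAut.conjNormal_apply] at this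
    calc a * x = x * a * x⁻¹ * x := by rw [h']
      _ = x * a := by group
  have hχ : IsIrrCharacter G (indFun A (lin L)) := isIrrCharacter_indFun_of_inertia A (isIrr_lin A L) hI
  have hdeg : charDegree (indFun A (lin L)) = A.index := by
    have h := hχ.apply_one_eq_charDegree
    rw [indFun_apply_one] at h
    simp only [lin, map_one, Units.val_one, mul_one, Nat.cast_inj] at h
    exact h.symm
  exact linked_of_dvd hr ht hrt ⟨_, hχ⟩ (show r ∣ charDegree (indFun A (lin L)) by rwa [hdeg])
    (show t ∣ charDegree (indFun A (lin L)) by rwa [hdeg])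

/-- Automorphisms of an elementary abelian group as linear maps. -/
def addEnd {V : Type u} [CommGroup V] (l : ℕ) [Module (ZMod l) (Additive V)] :
    MulAut V →* Module.End (ZMod l) (Additive V) where
  toFun e := (MonoidHom.toAdditive (e : V ≃* V).toMonoidHom).toZModLinearMap l
  map_one' := by ext w; rfl
  map_mul' _ _ := by ext w; rfl

theorem linked_of_action_aux {H : Type u} [Group H] [Finite H] [Group.IsSolvable H]
    {V : Type u} [CommGroup V] [Finite V] [Nontrivial V] {l : ℕ} [Fact l.Prime] [Module (ZMod l) (Additive V)]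
    (φ : H →* MulAut V)
    (hirr : ∀ W : Subgroup V, (∀ h, ∀ w ∈ W, φ h w ∈ W) → W = ⊥ ∨ W = ⊤)
    {r t : ℕ} [Fact r.Prime] [Fact t.Prime] (hrt : r ≠ t)
    (hr : ∀ v : V, v ≠ 1 → ∃ R : Sylow r H, (∀ g ∈ (R : Subgroup H), φ g v = v) ∧
      ∀ g, φ g v = v → g ∈ Subgroup.normalizer ((R : Subgroup H) : Set H))
    (ht : ∀ v : V, v ≠ 1 → ∃ R : Sylow t H, (∀ g ∈ (R : Subgroup H), φ g v = v) ∧
      ∀ g, φ g v = v → g ∈ Subgroup.normalizer ((R : Subgroup H) : Set H))
    (hrk : ∀ R : Sylow r H, ¬ (R : Subgroup H) ≤ φ.ker) (htk : ∀ R : Sylow t H, ¬ (R : Subgroup H) ≤ φ.ker) :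
    Linked r t H := by
  classical
  haveI : Nontrivial (Additive V) := Additive.toMul.nontrivial
  haveI : Finite (Additive V) := inferInstanceAs (Finite V)
  haveI : Group.IsSolvable φ.range := Group.isSolvable_of_surjective (f := φ.rangeRestrict) φ.rangeRestrict_surjective
  let ι : φ.range →* Module.End (ZMod l) (Additive V) := (addEnd l).comp φ.range.subtype
  have hι : Function.Injective ι := fun a b h => Subtype.ext (MulEquiv.ext fun v =>
    congrArg Additive.toMul (LinearMap.congr_fun h (Additive.ofMul v)))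
  have hirr' : Irreducible' ι := by
    intro W hW
    let W' : Subgroup V :=
      { carrier := {v | Additive.ofMul v ∈ W}
        one_mem' := by simpa only [Set.mem_ofPred_eq, ofMul_one] using W.zero_mem
        mul_mem' := fun {a b} h h' => by
          simp only [Set.mem_ofPred_eq, ofMul_mul] at h h' ⊢
          exact W.add_mem h h'
        inv_mem' := fun {a} h => by
          simp only [Set.mem_ofPred_eq, ofMul_inv] at h ⊢
          exact W.neg_mem h }
    rcases hirr W' fun h w hw => hW ⟨φ h, h, rfl⟩ _ hw with h | h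
    · refine Or.inl ((Submodule.eq_bot_iff W).2 fun x hx => ?_)
      have hx' : Additive.toMul x ∈ W' := by simpa [W'] using hx
      rw [h, Subgroup.mem_bot] at hx'
      exact Additive.toMul.injective hx'
    · refine Or.inr ((Submodule.eq_top_iff').2 fun x => ?_)
      have hx' : Additive.toMul x ∈ W' := h.symm ▸ Subgroup.mem_top _
      simpa [W'] using hx'
  have cover : ∀ {s : ℕ} [Fact s.Prime], (∀ v : V, v ≠ 1 → ∃ R : Sylow s H, (∀ g ∈ (R : Subgroup H), φ g v = v) ∧
      ∀ g, φ g v = v → g ∈ Subgroup.normalizer ((R : Subgroup H) : Set H)) → Cover ι s := by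
    intro s _ hs v hv
    obtain ⟨R, hR1, hR2⟩ := hs (Additive.toMul v) fun e => hv (Additive.toMul.injective e)
    refine ⟨R.mapSurjective φ.rangeRestrict_surjective, fun g hg => ?_, fun g hg => ?_⟩
    · rw [Sylow.coe_mapSurjective] at hg
      obtain ⟨h, hh, rfl⟩ := hg
      exact Additive.toMul.injective (hR1 h hh)
    · obtain ⟨h, rfl⟩ := φ.rangeRestrict_surjective g
      rw [Sylow.coe_mapSurjective]
      exact Subgroup.le_normalizer_map _ ⟨h, hR2 h (congrArg Additive.toMul hg), rfl⟩
  have dvdG : ∀ {s : ℕ} [Fact s.Prime], (∀ R : Sylow s H, ¬ (R : Subgroup H) ≤ φ.ker) →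
      s ∣ Nat.card φ.range := by
    intro s _ hs
    let R : Sylow s H := default
    by_contra hd
    refine hs R ?_
    have hbot : ((R.mapSurjective φ.rangeRestrict_surjective : Sylow s φ.range) : Subgroup φ.range) = ⊥ := by
      apply Subgroup.eq_bot_of_card_eq
      rw [Sylow.card_eq_multiplicity, Nat.factorization_eq_zero_of_not_dvd hd, pow_zero]
    rw [Sylow.coe_mapSurjective, Subgroup.map_eq_bot_iff] at hbot
    simpa using hbot
  obtain ⟨A, hAn, hAc, hAC, h1, h2⟩ :=
    exists_selfCentral hι hirr' hrt (cover hr) (cover ht) (dvdG hrk) (dvdG htk)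
  haveI := hAn
  exact linked_of_surjective φ.rangeRestrict φ.rangeRestrict_surjective
    (linked_of_selfCentral A hAc hAC Fact.out Fact.out hrt h1 h2)

/-- An irreducible action on an elementary abelian group, every nontrivial element of which is fixed
by Sylow subgroups for two primes normal in its stabiliser, links the two primes. -/
theorem linked_of_action {H : Type u} [Group H] [Finite H] [Group.IsSolvable H]
    {V : Type u} [CommGroup V] [Finite V] [Nontrivial V] {l : ℕ} [Fact l.Prime] (hl : ∀ v : V, v ^ l = 1)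
    (φ : H →* MulAut V)
    (hirr : ∀ W : Subgroup V, (∀ h, ∀ w ∈ W, φ h w ∈ W) → W = ⊥ ∨ W = ⊤)
    {r t : ℕ} [Fact r.Prime] [Fact t.Prime] (hrt : r ≠ t)
    (hr : ∀ v : V, v ≠ 1 → ∃ R : Sylow r H, (∀ g ∈ (R : Subgroup H), φ g v = v) ∧
      ∀ g, φ g v = v → g ∈ Subgroup.normalizer ((R : Subgroup H) : Set H))
    (ht : ∀ v : V, v ≠ 1 → ∃ R : Sylow t H, (∀ g ∈ (R : Subgroup H), φ g v = v) ∧
      ∀ g, φ g v = v → g ∈ Subgroup.normalizer ((R : Subgroup H) : Set H))
    (hrk : ∀ R : Sylow r H, ¬ (R : Subgroup H) ≤ φ.ker) (htk : ∀ R : Sylow t H, ¬ (R : Subgroup H) ≤ φ.ker) :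
    Linked r t H := by
  letI : Module (ZMod l) (Additive V) :=
    AddCommGroup.zmodModule (n := l) fun x => Additive.toMul.injective (by
      rw [toMul_nsmul, toMul_zero]; exact hl _)
  exact linked_of_action_aux (l := l) φ hirr hrt hr ht hrk htk

/-- The normaliser of a Sylow subgroup covers a normal product. -/
theorem normalizer_sup {p : ℕ} [Fact p.Prime] (P : Sylow p G) (N : Subgroup G)
    [hn : ((P : Subgroup G) ⊔ N).Normal] : Subgroup.normalizer ((P : Subgroup G) : Set G) ⊔ N = ⊤ := by
  have h := Sylow.normalizer_sup_eq_top (N := (P : Subgroup G) ⊔ N) (P.subtype le_sup_left)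
  rw [Sylow.coe_subtype, Subgroup.subgroupOf_map_subtype, inf_of_le_left le_sup_left, ← sup_assoc,
    sup_of_le_left Subgroup.le_normalizer] at h
  exact h

/-- A linear character of a normal subgroup fixed by a subgroup containing it extends across a
complement. -/
theorem exists_linear_extension (K H : Subgroup G) [hK : K.Normal] (hdisj : K ⊓ H = ⊥) (hsup : K ⊔ H = ⊤)
    (l : K →* ℂˣ) {T : Subgroup G} (hKT : K ≤ T) (hT : ∀ t ∈ T, twHom K l t = l) :
    ∃ μ : T →* ℂˣ, ∀ x : K, μ ⟨x, hKT x.2⟩ = l x := by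
  have hdec : ∀ t : T, ∃ k : K, (k : G)⁻¹ * (t : G) ∈ H := fun t => by
    obtain ⟨k, hk, h, hh, hkh⟩ := Subgroup.mem_sup_of_normal_left.1
      (show (t : G) ∈ K ⊔ H by rw [hsup]; exact Subgroup.mem_top _)
    exact ⟨⟨k, hk⟩, by rw [← hkh, inv_mul_cancel_left]; exact hh⟩
  choose k hk using hdec
  have huniq : ∀ (t : T) (a : K), (a : G)⁻¹ * (t : G) ∈ H → a = k t := by
    intro t a ha
    have h1 : ((a⁻¹ * k t : K) : G) ∈ K ⊓ H := ⟨(a⁻¹ * k t).2, by
      have := H.mul_mem ha (H.inv_mem (hk t))
      simpa [mul_assoc] using this⟩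
    rw [hdisj, Subgroup.mem_bot] at h1
    exact inv_mul_eq_one.1 (Subtype.ext h1)
  refine ⟨{ toFun := fun t => l (k t), map_one' := ?_, map_mul' := fun s t => ?_ }, fun x => ?_⟩
  · rw [← huniq 1 1 (by simpa using H.one_mem), map_one]
  · set a : K := k s * MulAut.conjNormal (((k s : G)⁻¹ * (s : G))) (k t) with ha
    have h1 : a = k (s * t) := by
      refine huniq _ _ ?_
      have := H.mul_mem (hk s) (hk t)
      rw [ha, Subgroup.coe_mul, Subgroup.coe_mul, MulAut.conjNormal_apply]
      convert this using 1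
      group
    rw [← h1, ha, map_mul]
    congr 1
    exact DFunLike.congr_fun (hT _ (T.mul_mem (T.inv_mem (hKT (k s).2)) s.2)) (k t)
  · exact congrArg l (huniq _ x (by simp [H.one_mem])).symm

end Cfsg.Lib.Char.ThreePrime
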