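import Cfsg.Agent.Lib.Recog.SolvTrans.Main
import Mathlib.FieldTheory.Finite.Basic
import Mathlib.FieldTheory.Galois.Basic

/-!
# Solvable irreducible groups containing an element for a primitive prime divisor
-/

set_option autoImplicit false
set_option linter.unusedSectionVars false
set_option linter.style.haveILetI false

namespace Cfsg.Lib.Char.ThreePrime

open Cfsg.Lib.Recog.SolvTrans

variable {q : ℕ} [Fact q.Prime] {V : Type*} [AddCommGroup V] [Module (ZMod q) V] [Finite V] [Nontrivial V]
  {G : Type*} [Group G] [Finite G] {ι : G →* Module.End (ZMod q) V}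

/-- Only the trivial subspaces are invariant. -/
def Irreducible' (ι : G →* Module.End (ZMod q) V) : Prop :=
  ∀ W : Submodule (ZMod q) V, (∀ g : G, ∀ v ∈ W, ι g v ∈ W) → W = ⊥ ∨ W = ⊤

/-- The vectors fixed by a subgroup. -/
def fixSub (ι : G →* Module.End (ZMod q) V) (A : Subgroup G) : Submodule (ZMod q) V where
  carrier := {v | ∀ a ∈ A, ι a v = v}
  add_mem' := fun {v w} hv hw a ha => by rw [map_add, hv a ha, hw a ha]
  zero_mem' := fun a _ => map_zero _
  smul_mem' := fun c v hv a ha => by rw [map_smul, hv a ha]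

theorem mem_fixSub {A : Subgroup G} {v : V} : v ∈ fixSub ι A ↔ ∀ a ∈ A, ι a v = v := Iff.rfl

theorem fixSub_invariant (A : Subgroup G) [hA : A.Normal] (g : G) :
    ∀ v ∈ fixSub ι A, ι g v ∈ fixSub ι A := by
  intro v hv a ha
  have h1 : ι (g⁻¹ * a * g) v = v := hv _ (by simpa using hA.conj_mem a ha g⁻¹)
  calc ι a (ι g v) = ι g (ι (g⁻¹ * a * g) v) := by
        rw [← Module.End.mul_apply, ← map_mul, ← Module.End.mul_apply, ← map_mul]; congr 2; group
    _ = ι g v := by rw [h1]

theorem eq_bot_of_fixed (hι : Function.Injective ι) (hirr : Irreducible' ι) (A : Subgroup G) [A.Normal]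
    {v : V} (hv : v ≠ 0) (hfix : ∀ a ∈ A, ι a v = v) : A = ⊥ := by
  rcases hirr (fixSub ι A) (fixSub_invariant A) with h | h
  · have h1 : v ∈ fixSub ι A := hfix
    rw [h, Submodule.mem_bot] at h1
    exact absurd h1 hv
  · rw [eq_bot_iff]
    intro a ha
    refine Subgroup.mem_bot.2 (hι ?_)
    rw [map_one]
    exact LinearMap.ext fun w => (h.symm ▸ Submodule.mem_top : w ∈ fixSub ι A) a ha

theorem no_normal_char_group (hι : Function.Injective ι) (hirr : Irreducible' ι) (A : Subgroup G) [A.Normal]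
    (hA : IsPGroup q A) : A = ⊥ := by
  classical
  letI : MulAction A V :=
    { smul := fun g v => ι g v
      one_smul := fun v => show ι 1 v = v by rw [map_one]; rfl
      mul_smul := fun g h v => show ι (g.1 * h.1) v = ι g (ι h v) by rw [map_mul]; rfl }
  have hdvd : q ∣ Nat.card V := by
    rw [card_V (q := q)]; exact dvd_pow_self q (finrank_pos' (q := q) (V := V)).ne'
  obtain ⟨b, hb, hb0⟩ := hA.exists_fixed_point_of_prime_dvd_card_of_fixed_point V hdvd
    (show (0 : V) ∈ MulAction.fixedPoints A V from fun a => map_zero (ι a))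
  exact eq_bot_of_fixed hι hirr A (Ne.symm hb0) fun a ha => hb ⟨a, ha⟩

theorem abelian_coprime (hι : Function.Injective ι) (hirr : Irreducible' ι) (A : Subgroup G) [A.Normal]
    (hA : ∀ a ∈ A, ∀ b ∈ A, a * b = b * a) : ¬ q ∣ Nat.card A := by
  intro hdvd
  obtain ⟨a, ha⟩ := exists_prime_orderOf_dvd_card' q hdvd
  let B : Subgroup G :=
    { carrier := {g | g ∈ A ∧ g ^ q = 1}
      one_mem' := ⟨A.one_mem, one_pow q⟩
      mul_mem' := fun {g h} hg hh => ⟨A.mul_mem hg.1 hh.1, by
        rw [(show Commute g h from hA g hg.1 h hh.1).mul_pow, hg.2, hh.2, one_mul]⟩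
      inv_mem' := fun {g} hg => ⟨A.inv_mem hg.1, by rw [inv_pow, hg.2, inv_one]⟩ }
  haveI : B.Normal := ⟨fun g hg x => ⟨Subgroup.Normal.conj_mem inferInstance g hg.1 x, by
    rw [conj_pow, hg.2, mul_one, mul_inv_cancel]⟩⟩
  have hB := no_normal_char_group hι hirr B (fun g => ⟨1, Subtype.ext (by simpa using g.2.2)⟩)
  have h1 : a.1 ∈ B := ⟨a.2, by rw [← Subgroup.coe_pow, ← ha, pow_orderOf_eq_one, Subgroup.coe_one]⟩
  rw [hB, Subgroup.mem_bot] at h1
  rw [show a = 1 from Subtype.ext h1, orderOf_one] at ha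
  exact (Fact.out : q.Prime).one_lt.ne ha

/-- The polynomials in an irreducible element reach every vector from a nonzero one. -/
theorem exists_alg_apply {x : G} (hx : IrredElem ι x) {v : V} (hv : v ≠ 0) (w : V) :
    ∃ p ∈ alg ι (Subgroup.zpowers x), p v = w := by
  let M := (alg ι (Subgroup.zpowers x)).toSubmodule.map (LinearMap.applyₗ (R := ZMod q) v)
  have hinv : ∀ u ∈ M, ι x u ∈ M := by
    rintro _ ⟨p, hp, rfl⟩
    exact ⟨ι x * p, Subalgebra.mul_mem _ (mem_alg (Subgroup.mem_zpowers x)) hp, rfl⟩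
  have hM : M = ⊤ := (hx M hinv).resolve_left fun h => hv (by
    have h1 : v ∈ M := ⟨1, Subalgebra.one_mem _, rfl⟩
    rwa [h, Submodule.mem_bot] at h1)
  obtain ⟨p, hp, hpw⟩ : w ∈ M := hM ▸ Submodule.mem_top
  exact ⟨p, hp, hpw⟩

/-- Endomorphisms commuting with an irreducible element are polynomials in it. -/
theorem mem_alg_of_commute {x : G} (hx : IrredElem ι x) {φ : Module.End (ZMod q) V}
    (hφ : Commute φ (ι x)) : φ ∈ alg ι (Subgroup.zpowers x) := by
  obtain ⟨v, hv⟩ := exists_ne (0 : V)
  obtain ⟨p, hp, hpv⟩ := exists_alg_apply hx hv (φ v)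
  have hxp : Commute p (ι x) := (commute_alg (φ := ι x) (fun a ha => by
    obtain ⟨k, rfl⟩ := Subgroup.mem_zpowers_iff.1 ha
    rw [commute_iff_eq, ← map_mul, ← map_mul, (Commute.self_zpow x k).eq]) hp).symm
  let W := LinearMap.ker (φ - p)
  have hinv : ∀ u ∈ W, ι x u ∈ W := by
    intro u hu
    rw [LinearMap.mem_ker] at hu ⊢
    rw [← Module.End.mul_apply, (hφ.sub_left hxp).eq, Module.End.mul_apply, hu, map_zero]
  have hW : W = ⊤ := (hx W hinv).resolve_left fun h => hv (by
    have h1 : v ∈ W := LinearMap.mem_ker.2 (by rw [LinearMap.sub_apply, hpv, sub_self])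
    rwa [h, Submodule.mem_bot] at h1)
  rw [sub_eq_zero.1 (LinearMap.ker_eq_top.1 hW)]
  exact hp

/-- Elements commuting with an irreducible element commute. -/
theorem commute_of_irred (hι : Function.Injective ι) {x g h : G} (hx : IrredElem ι x)
    (hg : x * g = g * x) (hh : x * h = h * x) : g * h = h * g := by
  have hg' := mem_alg_of_commute hx (φ := ι g) (by rw [commute_iff_eq, ← map_mul, ← map_mul, hg])
  have hh' := mem_alg_of_commute hx (φ := ι h) (by rw [commute_iff_eq, ← map_mul, ← map_mul, hh])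
  refine hι ?_
  rw [map_mul, map_mul]
  refine (alg_comm (A := Subgroup.zpowers x) ?_ hg' hh').eq
  rintro a ⟨i, rfl⟩ b ⟨j, rfl⟩
  exact (Commute.zpow_zpow (Commute.refl x) i j).eq

/-- A member of a field fixes no nonzero vector unless it is trivial. -/
theorem eq_one_of_fixed (hι : Function.Injective ι) {A : Subgroup G} (hf : FieldLike (alg ι A)) {a : G}
    (ha : a ∈ A) {v : V} (hv : v ≠ 0) (hfix : ι a v = v) : a = 1 := by
  refine hι ?_
  rw [map_one]
  by_contra hne
  refine hv (hf (ι a - 1) (sub_mem (mem_alg ha) (one_mem _)) (sub_ne_zero.2 hne) ?_)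
  rw [map_zero, LinearMap.sub_apply, hfix, Module.End.one_apply, sub_self]

theorem isCyclic_of_fieldLike (hι : Function.Injective ι) {A : Subgroup G}
    (hA : ∀ a ∈ A, ∀ b ∈ A, a * b = b * a) (hf : FieldLike (alg ι A)) : IsCyclic A := by
  haveI : Finite (Module.End (ZMod q) V) := Finite.of_injective _ DFunLike.coe_injective
  letI : Field (alg ι A) := (exists_field hA hf).toField
  let χ : A →* alg ι A :=
    { toFun := fun a => ⟨ι a.1, mem_alg a.2⟩
      map_one' := Subtype.ext (map_one ι)
      map_mul' := fun a b => Subtype.ext (map_mul ι a.1 b.1) }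
  exact isCyclic_of_injective χ.toHomUnits
    (fun a b e => Subtype.ext (hι (congrArg Subtype.val (congrArg Units.val e))))

/-- A self-centralising abelian normal subgroup with an irreducible member has index dividing the degree. -/
theorem index_dvd_finrank (hι : Function.Injective ι) {A : Subgroup G} [A.Normal]
    (hA : ∀ a ∈ A, ∀ b ∈ A, a * b = b * a) (hf : FieldLike (alg ι A))
    (hC : Subgroup.centralizer (A : Set G) ≤ A) {x : G} (hxA : x ∈ A) (hx : IrredElem ι x) :
    A.index ∣ Module.finrank (ZMod q) V := by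
  haveI : Finite (Module.End (ZMod q) V) := Finite.of_injective _ DFunLike.coe_injective
  letI : Field (alg ι A) := (exists_field hA hf).toField
  have hd : Module.finrank (ZMod q) (alg ι A) = Module.finrank (ZMod q) V := by
    refine le_antisymm (finrank_alg_le hf) ?_
    obtain ⟨v, hv⟩ := exists_ne (0 : V)
    refine LinearMap.finrank_le_finrank_of_surjective
      (f := (LinearMap.applyₗ (R := ZMod q) v).comp (alg ι A).val.toLinearMap) fun w => ?_
    obtain ⟨p, hp, hpw⟩ := exists_alg_apply hx hv w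
    exact ⟨⟨p, alg_mono (Subgroup.zpowers_le.2 hxA) hp⟩, hpw⟩
  have hnorm : ∀ g : G, ∀ a ∈ A, g * a * g⁻¹ ∈ A := fun g a ha =>
    Subgroup.Normal.conj_mem inferInstance a ha g
  let σ₀ : G → (alg ι A →ₐ[ZMod q] alg ι A) := fun g =>
    { toFun := fun a => ⟨ι g * a * ι g⁻¹, conj_mem_alg (hnorm g) a.2⟩
      map_one' := Subtype.ext (by
        show ι g * 1 * ι g⁻¹ = 1
        rw [mul_one, ← map_mul, mul_inv_cancel, map_one])
      map_mul' := fun a b => Subtype.ext (by
        show ι g * (a.1 * b.1) * ι g⁻¹ = ι g * a.1 * ι g⁻¹ * (ι g * b.1 * ι g⁻¹)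
        simp only [mul_assoc]
        rw [← mul_assoc (ι g⁻¹) (ι g), ← map_mul, inv_mul_cancel, map_one, one_mul])
      map_zero' := Subtype.ext (by show ι g * 0 * ι g⁻¹ = 0; rw [mul_zero, zero_mul])
      map_add' := fun a b => Subtype.ext (by
        show ι g * (a.1 + b.1) * ι g⁻¹ = ι g * a.1 * ι g⁻¹ + ι g * b.1 * ι g⁻¹
        rw [mul_add, add_mul])
      commutes' := fun c => Subtype.ext (by
        show ι g * algebraMap (ZMod q) _ c * ι g⁻¹ = algebraMap (ZMod q) _ c
        rw [← Algebra.commutes c (ι g), mul_assoc, ← map_mul, mul_inv_cancel, map_one, mul_one]) }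
  let φ : G →* (alg ι A ≃ₐ[ZMod q] alg ι A) :=
    { toFun := fun g => AlgEquiv.ofBijective (σ₀ g) (Finite.injective_iff_bijective.1 (σ₀ g).toRingHom.injective)
      map_one' := AlgEquiv.ext fun a => Subtype.ext (by
        show ι 1 * a.1 * ι 1⁻¹ = a.1
        rw [inv_one, map_one, one_mul, mul_one])
      map_mul' := fun g h => AlgEquiv.ext fun a => Subtype.ext (by
        show ι (g * h) * a.1 * ι (g * h)⁻¹ = ι g * (ι h * a.1 * ι h⁻¹) * ι g⁻¹
        rw [mul_inv_rev, map_mul, map_mul]; simp only [mul_assoc]) }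
  have hker : φ.ker = A := by
    ext g
    rw [MonoidHom.mem_ker]
    constructor
    · intro hg
      refine hC (Subgroup.mem_centralizer_iff.2 fun a ha => hι ?_)
      have h0 : ι g * ι a * ι g⁻¹ = ι a :=
        congrArg Subtype.val (DFunLike.congr_fun hg (⟨ι a, mem_alg ha⟩ : alg ι A))
      rw [map_mul, map_mul]
      conv_lhs => rw [← h0]
      simp only [mul_assoc]
      rw [← map_mul ι g⁻¹ g, inv_mul_cancel, map_one, mul_one]
    · intro hg
      refine AlgEquiv.ext fun a => Subtype.ext ?_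
      show ι g * a.1 * ι g⁻¹ = a.1
      rw [(alg_comm hA (mem_alg hg) a.2).eq, mul_assoc, ← map_mul, mul_inv_cancel, map_one, mul_one]
  rw [← hker, Subgroup.index_ker, ← hd, ← IsGalois.card_aut_eq_finrank (ZMod q) (alg ι A)]
  exact Subgroup.card_subgroup_dvd_card _

/-- The exceptional configuration: degree a power of two, one less than the prime. -/
structure Exceptional (ι : G →* Module.End (ZMod q) V) (z : ℕ) where
  m : ℕ
  A : Subgroup G
  N : Subgroup G
  hA : A.Normal
  hN : N.Normal
  hq : q ≠ 2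
  hm : 0 < m
  hdim : Module.finrank (ZMod q) V = 2 ^ m
  hz : z = 2 ^ m + 1
  hcentral : A ≤ Subgroup.center G
  hf : FieldLike (alg ι A)
  hAN : A ≤ N
  hz' : ¬ z ∣ Nat.card A
  h2 : 2 ∣ Nat.card A
  hsq : ∀ g ∈ N, g ^ 2 ∈ A
  hcomm : ∀ g ∈ N, ∀ h ∈ N, g * h * g⁻¹ * h⁻¹ ∈ A
  hrel : A.relIndex N = 2 ^ (2 * m)
  hcent : ∀ g : G, (∀ b ∈ N, g * b * g⁻¹ * b⁻¹ ∈ A) → g ∈ N

/-- The structure of a solvable irreducible group with an element for a primitive prime divisor. -/
theorem ppd_structure [Group.IsSolvable G] (hι : Function.Injective ι) (hirr : Irreducible' ι) {z : ℕ}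
    (hz : z.Prime) (hdvd : z ∣ q ^ Module.finrank (ZMod q) V - 1)
    (hppd : ∀ k, 0 < k → k < Module.finrank (ZMod q) V → ¬ z ∣ q ^ k - 1) {x : G} (hx : orderOf x = z) :
    (∃ A : Subgroup G, A.Normal ∧ (∀ a ∈ A, ∀ b ∈ A, a * b = b * a) ∧ FieldLike (alg ι A) ∧
      Subgroup.centralizer (A : Set G) = A ∧ x ∈ A) ∨ Nonempty (Exceptional ι z) := by
  classical
  haveI : Fact z.Prime := ⟨hz⟩
  have hq : q.Prime := Fact.out
  obtain ⟨haz, -⟩ := lt_of_ppd hz finrank_pos' hdvd hppd
  have hxirr := irred_of_ppd hι hz hx hdvd hppd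
  obtain ⟨A, ⟨hAn, hAc⟩, hmax⟩ := Set.exists_max_image
    {A : Subgroup G | A.Normal ∧ ∀ a ∈ A, ∀ b ∈ A, a * b = b * a} (fun A => Nat.card A) (Set.toFinite _)
    ⟨⊥, inferInstance, fun a ha b hb => by rw [Subgroup.mem_bot.1 ha, Subgroup.mem_bot.1 hb]⟩
  haveI := hAn
  have hmax' : ∀ B : Subgroup G, B.Normal → (∀ a ∈ B, ∀ b ∈ B, a * b = b * a) → A ≤ B → B ≤ A :=
    fun B hB hBc hAB => (Subgroup.eq_of_le_of_card_ge hAB (hmax B ⟨hB, hBc⟩)).ge
  have hco := abelian_coprime hι hirr A hAc
  have hnorm : ∀ a ∈ A, x * a * x⁻¹ ∈ A := fun a ha => hAn.conj_mem a ha x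
  have hf := fieldLike_of_prime hz haz hx hxirr hnorm hAc hco
  have hxA := centralised_of_prime hι hz haz hx hxirr hnorm hAc hco
  set C := Subgroup.centralizer (A : Set G) with hC
  haveI : C.Normal := Subgroup.normal_centralizer
  have hxC : x ∈ C := Subgroup.mem_centralizer_iff.2 fun a ha => (hxA a ha).symm
  have hAC : A ≤ C := fun a ha => Subgroup.mem_centralizer_iff.2 fun b hb => hAc b hb a ha
  by_cases hCA : C = A
  · exact Or.inl ⟨A, hAn, hAc, hf, hCA, hCA ▸ hxC⟩
  right
  obtain ⟨N, s, m, hNn, hs, hAN, hNC, hsA, hctr, hpow, hcl, hm, hidx, hle⟩ :=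
    class_two hι (lt_of_le_of_ne hAC (Ne.symm hCA))
      (fun a ha c hc => Subgroup.mem_centralizer_iff.1 hc a ha) hf (fun B hB _ hAB hBc => hmax' B hB hBc hAB)
  haveI := hNn
  haveI : Fact s.Prime := ⟨hs⟩
  have hAcent : ∀ a ∈ A, ∀ g ∈ N, a * g = g * a := fun a ha g hg =>
    Subgroup.mem_centralizer_iff.1 (hNC hg) a ha
  have hna : ∃ g ∈ N, ∃ h ∈ N, g * h ≠ h * g := by
    by_contra h
    push Not at h
    exact hAN.not_ge (hmax' N hNn h hAN.le)
  have hsz : s ≠ z := fun e => by
    have := (Nat.le_self_pow hm.ne' s).trans hle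
    omega
  have hsq : s ≠ q := fun e => hco (e ▸ hsA)
  have hnc : ∃ a ∈ Cfsg.pCore s G, x * a ≠ a * x := by
    by_contra hall
    push Not at hall
    obtain ⟨g, hg, h, hh, hne⟩ := hna
    -- every element of `N` commutes with `x`
    suffices hk : ∀ g ∈ N, x * g = g * x from hne (commute_of_irred hι hxirr (hk g hg) (hk h hh))
    intro g hg
    obtain ⟨k, m', hm', hk⟩ := Nat.exists_eq_pow_mul_and_not_dvd (orderOf_pos g).ne' s hs.ne_one
    have hcop : Nat.Coprime s m' := (hs.coprime_iff_not_dvd).2 hm'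
    have hgk : orderOf g ∣ s ^ k * m' := hk.dvd
    obtain ⟨u, w, huw⟩ : ∃ u w : ℤ, u * m' + w * (s ^ k : ℕ) = 1 := by
      have := Int.isCoprime_iff_nat_coprime.2 (show Nat.Coprime ((m' : ℤ)).natAbs (((s ^ k : ℕ) : ℤ)).natAbs by
        simpa using (hcop.pow_left k).symm)
      exact this
    have hsplit : g = (g ^ (m' : ℕ)) ^ u * (g ^ (s ^ k : ℕ)) ^ w := by
      conv_lhs => rw [← zpow_one g, ← huw]
      rw [zpow_add, mul_comm u, mul_comm w, zpow_mul, zpow_mul, zpow_natCast, zpow_natCast]
    have h2 : g ^ (s ^ k : ℕ) ∈ A := by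
      rcases Nat.eq_zero_or_pos k with rfl | hk0
      · -- the order of `g` is prime to `s`
        rw [pow_zero, pow_one]
        obtain ⟨e, he⟩ := exists_pow_eq_self_of_coprime (n := s) (x := g) (by
          refine (hs.coprime_iff_not_dvd).2 ?_
          rw [hk, pow_zero, one_mul]; exact hm')
        rw [← he]
        exact A.pow_mem (hpow g hg) _
      · obtain ⟨j, rfl⟩ : ∃ j, k = j + 1 := ⟨k - 1, by omega⟩
        rw [pow_succ, mul_comm, pow_mul]
        exact A.pow_mem (hpow g hg) _
    have h1 : g ^ (m' : ℕ) ∈ Cfsg.pCore s G := by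
      -- `N` is nilpotent, so its Sylow subgroup is normal in `G`
      have hnil : Group.IsNilpotent N := by
        letI : CommGroup (N ⧸ Subgroup.center N) :=
          { (inferInstance : Group (N ⧸ Subgroup.center N)) with
            mul_comm := fun a b => by
              induction a using QuotientGroup.induction_on with
              | H a =>
                induction b using QuotientGroup.induction_on with
                | H b =>
                  rw [← QuotientGroup.mk_mul, ← QuotientGroup.mk_mul, QuotientGroup.eq, Subgroup.mem_center_iff]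
                  intro c
                  refine Subtype.ext ?_
                  have hmem : ((a * b)⁻¹ * (b * a) : N).1 ∈ A := by
                    show ((a : G) * b)⁻¹ * ((b : G) * a) ∈ A
                    rw [show ((a : G) * b)⁻¹ * ((b : G) * a) =
                      (b : G)⁻¹ * (a : G)⁻¹ * (b : G)⁻¹⁻¹ * (a : G)⁻¹⁻¹ by group]
                    exact hcl _ (N.inv_mem b.2) _ (N.inv_mem a.2)
                  exact (hAcent _ hmem c c.2).symm }
        exact Subgroup.isNilpotent_of_ker_le_center (QuotientGroup.mk' (Subgroup.center N))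
          (QuotientGroup.ker_mk' _).le
      obtain ⟨P, hP⟩ : ∃ P : Sylow s N, (⟨g ^ (m' : ℕ), N.pow_mem hg _⟩ : N) ∈ P := by
        have hp : IsPGroup s (Subgroup.zpowers (⟨g ^ (m' : ℕ), N.pow_mem hg _⟩ : N)) := by
          rintro ⟨y, hy⟩
          obtain ⟨i, rfl⟩ := Subgroup.mem_zpowers_iff.1 hy
          refine ⟨k, Subtype.ext (Subtype.ext ?_)⟩
          show ((g ^ (m' : ℕ)) ^ i) ^ (s ^ k : ℕ) = 1
          rw [← zpow_natCast, ← zpow_mul, mul_comm, zpow_mul, zpow_natCast, ← pow_mul, mul_comm m',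
            orderOf_dvd_iff_pow_eq_one.1 hgk, one_zpow]
        obtain ⟨P, hP⟩ := hp.exists_le_sylow
        exact ⟨P, hP (Subgroup.mem_zpowers _)⟩
      haveI : (P : Subgroup N).Normal := inferInstance
      haveI : (P : Subgroup N).Characteristic := Sylow.characteristic_of_normal P inferInstance
      haveI : ((P : Subgroup N).map N.subtype).Normal := inferInstance
      exact Cfsg.Lib.Core.le_pCore (P.2.map N.subtype) ⟨_, hP, rfl⟩
    have hxu : Commute x ((g ^ (m' : ℕ)) ^ u) := Commute.zpow_right (hall _ h1) u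
    have hxw : Commute x ((g ^ (s ^ k : ℕ)) ^ w) := Commute.zpow_right (hxA _ h2) w
    rw [hsplit]
    exact (hxu.mul_right hxw).eq
  obtain ⟨a₀, ha₀, hne⟩ := hnc
  obtain ⟨m', hm', hle', hdv⟩ := structure_bound hι hz haz (k := 0) (by rw [zero_add, pow_one]; exact hx)
    (by rw [pow_zero, pow_one]; exact hxirr) hsz hsq (Cfsg.Lib.Core.pCore_isPGroup s G)
    (fun b hb => Subgroup.Normal.conj_mem inferInstance b hb x) ⟨a₀, ha₀, by rw [pow_zero, pow_one]; exact hne⟩
  rw [zero_add, pow_one] at hdv
  have hsplit : s ^ (2 * m') - 1 = (s ^ m' + 1) * (s ^ m' - 1) := by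
    rw [← Nat.sq_sub_sq, one_pow, ← pow_mul, mul_comm]
  rw [hsplit] at hdv
  have hs1 : 1 < s ^ m' := Nat.one_lt_pow hm'.ne' hs.one_lt
  have hz1 : z ∣ s ^ m' + 1 := (hz.dvd_mul.1 hdv).resolve_right fun h => by
    have := Nat.le_of_dvd (by omega) h; omega
  have hz2 := Nat.le_of_dvd (by omega) hz1
  have hdim : Module.finrank (ZMod q) V = s ^ m' := by omega
  have hzeq : z = s ^ m' + 1 := by omega
  have hs2 : s = 2 := by
    by_contra h
    obtain ⟨j, hj⟩ := (hs.odd_of_ne_two h).pow (n := m')
    rcases (Nat.dvd_prime hz).1 (⟨j + 1, by omega⟩ : 2 ∣ z) with e | e <;> omega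
  subst hs2
  -- the quotient of `N` by `A` is large
  have hrel : A.relIndex N = 2 ^ (2 * m) := by
    rw [← hidx, ← hctr, Subgroup.relIndex, ctr_eq_map]
    congr 1
    exact Subgroup.comap_map_eq_self_of_injective N.subtype_injective _
  have hxN : ∃ g ∈ N, x * g ≠ g * x := by
    by_contra h
    push Not at h
    obtain ⟨g, hg, h', hh', hne'⟩ := hna
    exact hne' (commute_of_irred hι hxirr (h g hg) (h h' hh'))
  have hxN' : ¬ ∀ g ∈ N, x * g * x⁻¹ * g⁻¹ ∈ A := by
    intro hall
    obtain ⟨g, hg, hne'⟩ := hxN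
    apply hne'
    set t := x * g * x⁻¹ * g⁻¹ with ht
    have htx : Commute t x := (hxA t (hall g hg)).symm
    have hconj : ∀ n : ℕ, x ^ n * g * (x ^ n)⁻¹ = t ^ n * g := by
      intro n
      induction n with
      | zero => simp
      | succ n ih =>
        rw [pow_succ', show x * x ^ n * g * (x * x ^ n)⁻¹ = x * (x ^ n * g * (x ^ n)⁻¹) * x⁻¹ by group, ih,
          show x * (t ^ n * g) * x⁻¹ = x * t ^ n * x⁻¹ * (x * g * x⁻¹) by group,
          ← (htx.pow_left n).eq, mul_inv_cancel_right, show x * g * x⁻¹ = t * g by rw [ht]; group, ← mul_assoc,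
          ← pow_succ]
    have h1 := hconj z
    rw [← hx, pow_orderOf_eq_one, one_mul, inv_one, mul_one, right_eq_mul] at h1
    have h2 : t ^ 2 = 1 := by
      have hg2 : x * g ^ 2 * x⁻¹ = g ^ 2 := by rw [hxA _ (hpow g hg), mul_inv_cancel_right]
      rw [← conj_pow, show x * g * x⁻¹ = t * g by rw [ht]; group,
        (show Commute t g from hAcent t (hall g hg) g hg).mul_pow, mul_eq_right] at hg2
      exact hg2
    have ht1 : t = 1 := by
      have := Nat.eq_one_of_dvd_coprimes ((Nat.coprime_primes hz Nat.prime_two).2 hsz.symm)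
        (orderOf_dvd_of_pow_eq_one (hx ▸ h1)) (orderOf_dvd_of_pow_eq_one h2)
      exact orderOf_eq_one_iff.1 this
    calc x * g = x * g * x⁻¹ * g⁻¹ * (g * x) := by group
      _ = g * x := by rw [← ht, ht1, one_mul]
  have hmm : m' ≤ m := by
    -- the element `x` acts on the quotient
    by_contra hlt
    push Not at hlt
    apply hxN'
    let M := N.map (QuotientGroup.mk' A)
    haveI : M.Normal := hNn.map _ (QuotientGroup.mk'_surjective A)
    let φ : G →* MulAut M := (MulAut.conjNormal).comp (QuotientGroup.mk' A)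
    have hM : Nat.card M = 2 ^ (2 * m) := by
      rw [← hrel, show M = N.map (QuotientGroup.mk' A) from rfl, Subgroup.relIndex,
        show A.subgroupOf N = ((QuotientGroup.mk' A).comp N.subtype).ker by
          rw [← MonoidHom.comap_ker, QuotientGroup.ker_mk']; rfl,
        Subgroup.index_ker, MonoidHom.range_comp, Subgroup.range_subtype]
    have hxord : orderOf (φ x) ∣ z := hx ▸ orderOf_map_dvd φ x
    have h1 : φ x = 1 := by
      rcases (Nat.dvd_prime hz).1 hxord with h | h
      · exact orderOf_eq_one_iff.1 h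
      exfalso
      -- orbits of length `z` on a set of size less than `z`
      let f : Function.End M := fun a => φ x a
      have hfi : ∀ (i : ℕ) (a : M), (f ^ i) a = (φ x ^ i) a := by
        intro i
        induction i with
        | zero => intro a; rfl
        | succ i ih => intro a; rw [pow_succ', pow_succ']; exact congrArg (φ x) (ih a)
      haveI : Fintype M := Fintype.ofFinite _
      have hf : f ^ z ^ 1 = 1 := funext fun a => by
        rw [hfi, pow_one, ← h, pow_orderOf_eq_one]; rfl
      have hmod := Equiv.Perm.card_fixedPoints_modEq hf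
      rw [← Nat.card_eq_fintype_card, ← Nat.card_eq_fintype_card] at hmod
      let F : Subgroup M := MonoidHom.eqLocus (φ x).toMonoidHom (MonoidHom.id M)
      have hfix : Nat.card (Function.fixedPoints f) = Nat.card F := Nat.card_congr (Equiv.refl _)
      obtain ⟨i, hi, hiF⟩ := (Nat.dvd_prime_pow Nat.prime_two).1 (hM ▸ F.card_subgroup_dvd_card)
      rw [hfix, hiF, hM] at hmod
      have hi2 : i ≠ 2 * m := fun e => by
        have hF : F = ⊤ := Subgroup.eq_top_of_card_eq F (by rw [hiF, hM, e])
        have : φ x = 1 := MulEquiv.ext fun a => (hF.symm ▸ Subgroup.mem_top a : a ∈ F)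
        rw [this, orderOf_one] at h
        exact hz.one_lt.ne h
      have hd := (Nat.modEq_iff_dvd' (Nat.pow_le_pow_right two_pos hi)).1 hmod.symm
      rw [← Nat.sub_add_cancel hi, pow_add, ← Nat.sub_one_mul] at hd
      have hd' : z ∣ 2 ^ (2 * m - i) - 1 := (hz.dvd_mul.1 hd).resolve_right fun h' =>
        hsz ((Nat.prime_dvd_prime_iff_eq hz Nat.prime_two).1 (hz.dvd_of_dvd_pow h')).symm
      have hz3 : z ∣ 2 ^ (2 * m') - 1 := by rw [hsplit]; exact dvd_mul_of_dvd_left hz1 _
      -- a proper power below `2 * m'`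
      have hg := Nat.dvd_gcd hd' hz3
      rw [Nat.pow_sub_one_gcd_pow_sub_one] at hg
      have hgd : Nat.gcd (2 * m - i) (2 * m') ∣ 2 * m' := Nat.gcd_dvd_right _ _
      have hgpos : 0 < Nat.gcd (2 * m - i) (2 * m') := Nat.gcd_pos_of_pos_right _ (by omega)
      have hgle : Nat.gcd (2 * m - i) (2 * m') ≤ m' := by
        obtain ⟨c, hc⟩ := hgd
        have hle2 := Nat.le_of_dvd (by omega) (Nat.gcd_dvd_left (2 * m - i) (2 * m'))
        rcases c with _ | _ | c
        · omega
        · omega
        · have h' := Nat.mul_le_mul_left (Nat.gcd (2 * m - i) (2 * m')) (show 2 ≤ c + 1 + 1 by omega)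
          rw [← hc] at h'
          omega
      have h4 : 2 ^ Nat.gcd (2 * m - i) (2 * m') ≤ 2 ^ m' := Nat.pow_le_pow_right two_pos hgle
      have h5 : 2 ≤ 2 ^ Nat.gcd (2 * m - i) (2 * m') := Nat.le_self_pow hgpos.ne' 2
      have := Nat.le_of_dvd (by omega) hg
      omega
    intro g hg
    have h0 := congrArg Subtype.val (DFunLike.congr_fun h1 ⟨_, Subgroup.mem_map_of_mem (QuotientGroup.mk' A) hg⟩)
    refine (QuotientGroup.eq_one_iff _).1 ?_
    show QuotientGroup.mk' A (x * g * x⁻¹ * g⁻¹) = 1
    rw [map_mul, map_mul, map_mul, map_inv, map_inv]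
    have h0' : QuotientGroup.mk' A x * QuotientGroup.mk' A g * (QuotientGroup.mk' A x)⁻¹ =
      QuotientGroup.mk' A g := h0
    rw [h0', mul_inv_cancel]
  have hmeq : m = m' := le_antisymm ((Nat.pow_le_pow_iff_right one_lt_two).1 (hdim ▸ hle)) hmm
  subst hmeq
  -- the cosets span all endomorphisms
  have hdimEnd : Module.finrank (ZMod q) (Module.End (ZMod q) V) = 2 ^ (2 * m) := by
    rw [Module.finrank_linearMap, hdim, ← pow_add, two_mul]
  haveI : Fintype (N ⧸ Subgroup.center N) := Fintype.ofFinite _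
  have hspan := (indep_cosets (ι := ι) hι (P := N) (hctr.symm ▸ hf)
    (fun a ha b hb => hctr.symm ▸ hcl a ha b hb)).span_eq_top_of_card_eq_finrank (by
      rw [← Nat.card_eq_fintype_card, ← Subgroup.index_eq_card, hidx, hdimEnd])
  have hCN : ∀ g : G, (∀ b ∈ N, b * g = g * b) → g ∈ Subgroup.center G := by
    intro g hg
    have hall : ∀ φ : Module.End (ZMod q) V, Commute (ι g) φ := by
      intro φ
      have hφ : φ ∈ Submodule.span (ZMod q)
          (Set.range fun x : N ⧸ Subgroup.center N => ι (x.out : N).1) := hspan ▸ Submodule.mem_top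
      induction hφ using Submodule.span_induction with
      | mem x hx =>
        obtain ⟨y, rfl⟩ := hx
        rw [commute_iff_eq, ← map_mul, ← map_mul, hg _ (y.out : N).2]
      | zero => exact Commute.zero_right _
      | add x y _ _ hx hy => exact hx.add_right hy
      | smul a x _ hx => exact hx.smul_right a
    exact Subgroup.mem_center_iff.2 fun h => hι (by rw [map_mul, map_mul]; exact (hall (ι h)).eq.symm)
  have hcentral : A ≤ Subgroup.center G := fun a ha => hCN a fun b hb => (hAcent a ha b hb).symm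
  have hZA : Subgroup.center G ≤ A := by
    have hAZ : A ⊔ Subgroup.center G ≤ Subgroup.center G := sup_le hcentral le_rfl
    exact (le_sup_right (a := A)).trans (hmax' _ inferInstance
      (fun a ha b _ => (Subgroup.mem_center_iff.1 (hAZ ha) b).symm) le_sup_left)
  refine ⟨⟨m, A, N, hAn, hNn, fun e => hsq e.symm, hm, hdim, hzeq, hcentral, hf, hAN.le, ?_, hsA, hpow, hcl,
    hrel, ?_⟩⟩
  · intro hd
    obtain ⟨y, hy⟩ := exists_prime_orderOf_dvd_card' (G := A) z hd
    have hy' : orderOf (y : G) = z := by rw [Subgroup.orderOf_coe]; exact hy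
    have hyirr := irred_of_ppd hι hz hy' hdvd hppd
    obtain ⟨g, hg, h, hh, hne⟩ := hna
    exact hne (commute_of_irred hι hyirr (hAcent _ y.2 g hg) (hAcent _ y.2 h hh))
  · -- inner automorphisms exhaust the central ones
    let T : Subgroup G :=
      { carrier := {g | ∀ b ∈ N, g * b * g⁻¹ * b⁻¹ ∈ A}
        one_mem' := fun b _ => by simp
        mul_mem' := fun {g g'} hg hg' b hb => by
          rw [show g * g' * b * (g * g')⁻¹ * b⁻¹ = g * (g' * b * g'⁻¹ * b⁻¹) * g⁻¹ * (g * b * g⁻¹ * b⁻¹) by
            group]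
          exact A.mul_mem (hAn.conj_mem _ (hg' b hb) g) (hg b hb)
        inv_mem' := fun {g} hg b hb => by
          rw [show g⁻¹ * b * g⁻¹⁻¹ * b⁻¹ = g⁻¹ * (g * b * g⁻¹ * b⁻¹)⁻¹ * g⁻¹⁻¹ by group]
          exact hAn.conj_mem _ (A.inv_mem (hg b hb)) _ }
    have hNT : N ≤ T := fun g hg b hb => hcl g hg b hb
    let A2 : Subgroup A :=
      { carrier := {a | a ^ 2 = 1}
        one_mem' := one_pow 2
        mul_mem' := fun {a b} ha hb => by
          show (a * b) ^ 2 = 1
          rw [(show Commute a b from Subtype.ext (hAc _ a.2 _ b.2)).mul_pow, ha, hb, one_mul]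
        inv_mem' := fun {a} ha => by show a⁻¹ ^ 2 = 1; rw [inv_pow, ha, inv_one] }
    have hA2 : Nat.card A2 ≤ 2 := by
      haveI := isCyclic_of_fieldLike hι hAc hf
      haveI : Fintype A := Fintype.ofFinite A
      rw [← SetLike.coe_sort_coe, Nat.card_coe_set_eq, Set.ncard_eq_toFinset_card']
      convert IsCyclic.card_pow_eq_one_le (α := A) (n := 2) two_pos using 2
      ext a
      simp [A2]
    have hAc' : ∀ a ∈ A, ∀ g : G, a * g = g * a := fun a ha g =>
      (Subgroup.mem_center_iff.1 (hcentral ha) g).symm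
    have hsqA : ∀ g : T, ∀ b ∈ N, ((g : G) * b * (g : G)⁻¹ * b⁻¹) ^ 2 = 1 := by
      intro g b hb
      set t := (g : G) * b * (g : G)⁻¹ * b⁻¹ with ht
      have hg2 : (g : G) * b ^ 2 * (g : G)⁻¹ = b ^ 2 := by
        rw [← hAc' _ (hpow b hb), mul_inv_cancel_right]
      rw [← conj_pow, show (g : G) * b * (g : G)⁻¹ = t * b by rw [ht]; group,
        (show Commute t b from hAc' t (g.2 b hb) b).mul_pow, mul_eq_right] at hg2
      exact hg2
    -- evaluation on the coset representatives
    have hgen : ∃ b : Fin (2 * m) → G, (∀ i, b i ∈ N) ∧ N ≤ A ⊔ Subgroup.closure (Set.range b) := by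
      -- grow a chain of subgroups
      have key : ∀ k, ∃ b : Fin k → G, (∀ i, b i ∈ N) ∧
          (N ≤ A ⊔ Subgroup.closure (Set.range b) ∨
            A.relIndex (A ⊔ Subgroup.closure (Set.range b)) ≥ 2 ^ k) := by
        intro k
        induction k with
        | zero => exact ⟨Fin.elim0, fun i => i.elim0, Or.inr (by
            rw [pow_zero]; exact Nat.one_le_iff_ne_zero.2 Subgroup.FiniteIndex.index_ne_zero)⟩
        | succ k ih =>
          obtain ⟨b, hb, hb'⟩ := ih
          by_cases hN' : N ≤ A ⊔ Subgroup.closure (Set.range b)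
          · refine ⟨Fin.snoc b 1, fun i => ?_, Or.inl (hN'.trans (sup_le_sup_left (Subgroup.closure_mono ?_) _))⟩
            · refine Fin.lastCases ?_ (fun j => ?_) i <;> simp [hb, N.one_mem]
            · rintro _ ⟨i, rfl⟩; exact ⟨i.castSucc, by simp⟩
          · obtain ⟨g, hg, hgn⟩ := Set.not_subset.1 hN'
            refine ⟨Fin.snoc b g, fun i => ?_, Or.inr ?_⟩
            · refine Fin.lastCases ?_ (fun j => ?_) i
              · simp only [Fin.snoc_last]; exact hg
              · simp [hb]
            · set K := A ⊔ Subgroup.closure (Set.range b)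
              set K' := A ⊔ Subgroup.closure (Set.range (Fin.snoc b g : Fin (k + 1) → G))
              have hKK : K ≤ K' := sup_le_sup_left (Subgroup.closure_mono (by
                rintro _ ⟨i, rfl⟩; exact ⟨i.castSucc, by simp⟩)) _
              have hgK : g ∈ K' := (le_sup_right (a := A)) (Subgroup.subset_closure ⟨Fin.last k, by simp⟩)
              rw [← Subgroup.relIndex_mul_relIndex A K K' le_sup_left hKK]
              have h2 : 2 ≤ K.relIndex K' := by
                have h0 : K.relIndex K' ≠ 0 := Subgroup.FiniteIndex.index_ne_zero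
                have h1 : K.relIndex K' ≠ 1 := fun h => hgn (Subgroup.relIndex_eq_one.1 h hgK)
                omega
              rw [pow_succ]
              exact Nat.mul_le_mul (hb'.resolve_left hN') h2
      obtain ⟨b, hb, hb'⟩ := key (2 * m)
      refine ⟨b, hb, hb'.elim id fun h => ?_⟩
      have hKN : A ⊔ Subgroup.closure (Set.range b) ≤ N := sup_le hAN.le ((Subgroup.closure_le _).2 (by
        rintro _ ⟨i, rfl⟩; exact hb i))
      have h2 := Subgroup.relIndex_mul_relIndex A _ N le_sup_left hKN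
      rw [hrel] at h2
      refine Subgroup.relIndex_eq_one.1 ?_
      have h0 : (A ⊔ Subgroup.closure (Set.range b)).relIndex N ≠ 0 := Subgroup.FiniteIndex.index_ne_zero
      by_contra h1
      have : 2 ^ (2 * m) * 2 ≤ 2 ^ (2 * m) := by
        calc 2 ^ (2 * m) * 2 ≤ A.relIndex (A ⊔ Subgroup.closure (Set.range b)) *
              (A ⊔ Subgroup.closure (Set.range b)).relIndex N := Nat.mul_le_mul h (by omega)
          _ = 2 ^ (2 * m) := h2
      have := Nat.one_le_pow (2 * m) 2 two_pos
      omega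
    obtain ⟨b, hb, hbgen⟩ := hgen
    let ψ : T →* (Fin (2 * m) → A2) :=
      { toFun := fun g i => ⟨⟨_, g.2 (b i) (hb i)⟩, Subtype.ext (hsqA g (b i) (hb i))⟩
        map_one' := funext fun i => Subtype.ext (Subtype.ext (by simp))
        map_mul' := fun g h => funext fun i => Subtype.ext (Subtype.ext (by
          show (g : G) * (h : G) * b i * ((g : G) * (h : G))⁻¹ * (b i)⁻¹ =
            (g : G) * b i * (g : G)⁻¹ * (b i)⁻¹ * ((h : G) * b i * (h : G)⁻¹ * (b i)⁻¹)
          have hh := hAc' _ (h.2 (b i) (hb i))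
          calc (g : G) * (h : G) * b i * ((g : G) * (h : G))⁻¹ * (b i)⁻¹ =
                (g : G) * ((h : G) * b i * (h : G)⁻¹ * (b i)⁻¹) * (b i * (g : G)⁻¹ * (b i)⁻¹) := by group
            _ = (h : G) * b i * (h : G)⁻¹ * (b i)⁻¹ * ((g : G) * b i * (g : G)⁻¹ * (b i)⁻¹) := by
                rw [← hh (g : G)]; group
            _ = _ := hh _)) }
    have hker : ∀ g ∈ ψ.ker, (g : G) ∈ A := by
      intro g hg
      refine hZA (hCN _ fun c hc => ?_)
      have hall : A ⊔ Subgroup.closure (Set.range b) ≤ Subgroup.centralizer {(g : G)} := by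
        refine sup_le (fun a ha => Subgroup.mem_centralizer_singleton_iff.2 (hAc' a ha _).symm.symm)
          ((Subgroup.closure_le _).2 ?_)
        rintro _ ⟨i, rfl⟩
        have h0 := congrArg (fun f : Fin (2 * m) → A2 => ((f i : A) : G)) hg
        have h0' : (g : G) * b i * (g : G)⁻¹ * (b i)⁻¹ = 1 := h0
        exact Subgroup.mem_centralizer_singleton_iff.2
          (mul_inv_eq_iff_eq_mul.1 (mul_inv_eq_one.1 h0')).symm
      exact Subgroup.mem_centralizer_singleton_iff.1 (hall (hbgen hc))
    intro g hg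
    have hle : Nat.card T ≤ Nat.card A * 2 ^ (2 * m) := by
      rw [← ψ.ker.card_mul_index, Subgroup.index_ker]
      refine Nat.mul_le_mul (Nat.card_le_card_of_injective (fun g => (⟨(g.1 : G), hker g.1 g.2⟩ : A))
        fun g h e => Subtype.ext (Subtype.ext (congrArg (fun a : A => (a : G)) e))) ?_
      refine (Subgroup.card_le_card_group _).trans ?_
      rw [Nat.card_fun, Nat.card_fin]
      exact Nat.pow_le_pow_left hA2 _
    have hNcard : Nat.card N = Nat.card A * 2 ^ (2 * m) := by
      rw [← hrel, ← (A.subgroupOf N).card_mul_index, Nat.card_congr (Subgroup.subgroupOfEquivOfLe hAN.le).toEquiv]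
      rfl
    have := Subgroup.eq_of_le_of_card_ge hNT (hle.trans hNcard.ge)
    rw [this]
    exact hg

end Cfsg.Lib.Char.ThreePrime
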