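import Cfsg.Agent.Lib.Char.ThreePrime.Count
import Cfsg.Agent.Lib.Char.ThreePrime.Linear
import Cfsg.Agent.S2904

/-!
# Irreducible solvable groups covered by Sylow subgroups for two primes
-/

set_option autoImplicit false
set_option linter.unusedSectionVars false
set_option linter.style.haveILetI false

namespace Cfsg.Lib.Char.ThreePrime

open Cfsg.Lib.Recog.SolvTrans

variable {q : ℕ} [Fact q.Prime] {V : Type*} [AddCommGroup V] [Module (ZMod q) V] [Finite V] [Nontrivial V]
  {G : Type*} [Group G] [Finite G] {ι : G →* Module.End (ZMod q) V}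

/-- Each nonzero vector is fixed by a Sylow subgroup normalised by the stabiliser. -/
def Cover (ι : G →* Module.End (ZMod q) V) (r : ℕ) : Prop :=
  ∀ v : V, v ≠ 0 → ∃ R : Sylow r G, (∀ g ∈ (R : Subgroup G), ι g v = v) ∧
    ∀ g : G, ι g v = v → g ∈ Subgroup.normalizer ((R : Subgroup G) : Set G)

theorem le_sylow_of_normal {H : Subgroup G} [H.Normal] {r : ℕ} (hH : IsPGroup r H) (R : Sylow r G) :
    H ≤ (R : Subgroup G) :=
  le_sup_right.trans (R.3 (R.2.to_sup_of_normal_right hH) le_sup_left).le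

theorem cover_count {r : ℕ} [Fact r.Prime] (hι : Function.Injective ι) (hirr : Irreducible' ι)
    (hcov : Cover ι r) (hrG : r ∣ Nat.card G) (R : Sylow r G) :
    q ^ Module.finrank (ZMod q) V - 1 =
        Nat.card (Sylow r G) * (q ^ Module.finrank (ZMod q) (fixSub ι (R : Subgroup G)) - 1) ∧
      Module.finrank (ZMod q) (fixSub ι (R : Subgroup G)) < Module.finrank (ZMod q) V ∧
      0 < Module.finrank (ZMod q) (fixSub ι (R : Subgroup G)) ∧
      1 < Nat.card (Sylow r G) ∧ r ∣ Nat.card (Sylow r G) - 1 := by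
  classical
  have hq : q.Prime := Fact.out
  letI : MulAction G V :=
    { smul := fun g v => ι g v
      one_smul := fun v => show ι 1 v = v by rw [map_one]; rfl
      mul_smul := fun g h v => show ι (g * h) v = ι g (ι h v) by rw [map_mul]; rfl }
  have hcov' : Covered G r (0 : V) := fun v hv => by
    obtain ⟨Q, h1, h2⟩ := hcov v hv
    exact ⟨Q, fun g hg => h1 g hg, fun g hg => h2 g hg⟩
  have hcard := card_eq_mul (0 : V) (fun g => map_zero (ι g)) hcov' R
  have hfix : Nat.card {x : V // ∀ g ∈ (R : Subgroup G), g • x = x} =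
      q ^ Module.finrank (ZMod q) (fixSub ι (R : Subgroup G)) := by
    have h := Module.natCard_eq_pow_finrank (K := ZMod q) (V := fixSub ι (R : Subgroup G))
    rw [Nat.card_zmod] at h
    rw [← h]
    rfl
  rw [hfix, card_V (q := q)] at hcard
  have hRne : (R : Subgroup G) ≠ ⊥ := R.ne_bot_of_dvd_card hrG
  have hpos : 1 < q ^ Module.finrank (ZMod q) V := Nat.one_lt_pow finrank_pos'.ne' hq.one_lt
  have hb0 : 0 < Module.finrank (ZMod q) (fixSub ι (R : Subgroup G)) := by
    by_contra h0
    rw [show Module.finrank (ZMod q) (fixSub ι (R : Subgroup G)) = 0 by omega, pow_zero, Nat.sub_self,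
      mul_zero] at hcard
    omega
  refine ⟨hcard, ?_, hb0, ?_, ?_⟩
  · refine Submodule.finrank_lt fun h => hRne ?_
    rw [eq_bot_iff]
    intro g hg
    refine Subgroup.mem_bot.2 (hι ?_)
    rw [map_one]
    exact LinearMap.ext fun w => (h.symm ▸ Submodule.mem_top : w ∈ fixSub ι (R : Subgroup G)) g hg
  · by_contra hle
    have h1 : Nat.card (Sylow r G) = 1 := le_antisymm (by omega) Nat.card_pos
    have : Subsingleton (Sylow r G) := (Nat.card_eq_one_iff_unique.1 h1).1
    haveI := R.normal_of_subsingleton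
    obtain ⟨v, hv⟩ := exists_ne (0 : V)
    obtain ⟨Q, hQ, -⟩ := hcov v hv
    rw [Subsingleton.elim Q R] at hQ
    exact hRne (eq_bot_of_fixed hι hirr _ hv hQ)
  · exact (Nat.modEq_iff_dvd' Nat.card_pos).1 (card_sylow_modEq_one r G).symm

/-- In degree six over the field of two elements the prime is two. -/
theorem eq_two_of_six {r : ℕ} [Fact r.Prime] [Group.IsSolvable G] (hι : Function.Injective ι)
    (hirr : Irreducible' ι) (hcov : Cover ι r) (hrG : r ∣ Nat.card G) (hq2 : q = 2)
    (h6 : Module.finrank (ZMod q) V = 6) : r = 2 := by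
  subst hq2
  classical
  have hr : r.Prime := Fact.out
  by_contra hr2
  let R : Sylow r G := default
  obtain ⟨hcard, hlt, hpos, hn1, hdiv⟩ := cover_count hι hirr hcov hrG R
  rw [h6] at hcard hlt
  have hGL : Nat.card G ∣ 20158709760 := by
    refine (card_dvd_gl hι h6).trans ?_
    simp [Fin.prod_univ_succ]
  set n := Nat.card (Sylow r G) with hn
  set b := Module.finrank (ZMod 2) (fixSub ι (R : Subgroup G)) with hb
  have hr' : (r = 31 ∧ b = 1) ∨ (r = 5 ∧ b = 2) := by
    interval_cases b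
    · have : n = 63 := by omega
      rw [this, show (63 : ℕ) - 1 = 2 * 31 by norm_num] at hdiv
      rcases hr.dvd_mul.1 hdiv with h | h
      · exact absurd ((Nat.prime_dvd_prime_iff_eq hr Nat.prime_two).1 h) hr2
      · exact Or.inl ⟨(Nat.prime_dvd_prime_iff_eq hr (by norm_num)).1 h, rfl⟩
    · have : n = 21 := by omega
      rw [this, show (21 : ℕ) - 1 = 2 ^ 2 * 5 by norm_num] at hdiv
      rcases hr.dvd_mul.1 hdiv with h | h
      · exact absurd ((Nat.prime_dvd_prime_iff_eq hr Nat.prime_two).1 (hr.dvd_of_dvd_pow h)) hr2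
      · exact Or.inr ⟨(Nat.prime_dvd_prime_iff_eq hr (by norm_num)).1 h, rfl⟩
    · have : n = 9 := by omega
      rw [this, show (9 : ℕ) - 1 = 2 ^ 3 by norm_num] at hdiv
      exact absurd ((Nat.prime_dvd_prime_iff_eq hr Nat.prime_two).1 (hr.dvd_of_dvd_pow hdiv)) hr2
    · omega
    · omega
  have hr31 : r = 31 ∨ r = 5 := hr'.imp And.left And.left
  have hRcard : Nat.card (R : Subgroup G) = r := by
    obtain ⟨j, hj⟩ := IsPGroup.iff_card.1 R.2
    have hjd : r ^ j ∣ 20158709760 := hj ▸ (Subgroup.card_subgroup_dvd_card _).trans hGL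
    have hj1 : j ≤ 1 := by
      by_contra h
      have h2 := (pow_dvd_pow r (show 2 ≤ j by omega)).trans hjd
      rcases hr31 with rfl | rfl <;> norm_num at h2
    have : j ≠ 0 := by
      rintro rfl
      rw [pow_zero] at hj
      exact R.ne_bot_of_dvd_card hrG (Subgroup.card_eq_one.1 hj)
    rw [hj, show j = 1 by omega, pow_one]
  obtain ⟨x', hx'⟩ := exists_prime_orderOf_dvd_card' (G := (R : Subgroup G)) r (hRcard.symm.dvd)
  obtain ⟨x, hxdef⟩ : ∃ x : G, (x' : G) = x := ⟨_, rfl⟩
  have hx : orderOf x = r := by rw [← hxdef, Subgroup.orderOf_coe]; exact hx'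
  have hxR : x ∈ (R : Subgroup G) := hxdef ▸ x'.2
  have hgen : (R : Subgroup G) = Subgroup.zpowers x :=
    (Subgroup.eq_of_le_of_card_ge (Subgroup.zpowers_le.2 hxR) (by rw [hRcard, Nat.card_zpowers, hx])).symm
  have hOr : Cfsg.pCore r G = ⊥ := by
    by_contra hne
    have hle : Cfsg.pCore r G ≤ (R : Subgroup G) :=
      le_sylow_of_normal (Cfsg.Lib.Core.pCore_isPGroup r G) R
    have heq : Cfsg.pCore r G = (R : Subgroup G) := by
      refine Subgroup.eq_of_le_of_card_ge hle ?_
      obtain ⟨j, hj⟩ := (Cfsg.Lib.Core.pCore_isPGroup r G).exists_card_eq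
      rcases Nat.eq_zero_or_pos j with rfl | hj0
      · rw [pow_zero] at hj
        exact absurd (Subgroup.card_eq_one.1 hj) hne
      · rw [hRcard, hj]
        exact Nat.le_self_pow hj0.ne' r
    obtain ⟨v, hv⟩ := exists_ne (0 : V)
    obtain ⟨Q, hQ, -⟩ := hcov v hv
    haveI : (R : Subgroup G).Normal := heq ▸ inferInstance
    haveI := Sylow.unique_of_normal R inferInstance
    rw [Subsingleton.elim Q R] at hQ
    exact R.ne_bot_of_dvd_card hrG (eq_bot_of_fixed hι hirr _ hv hQ)
  have hcore : ∀ p : ℕ, p.Prime → ∀ a ∈ Cfsg.pCore p G, x * a = a * x := by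
    intro p hp a ha
    haveI : Fact p.Prime := ⟨hp⟩
    rcases eq_or_ne p r with rfl | hpr
    · rw [hOr, Subgroup.mem_bot] at ha
      rw [ha, mul_one, one_mul]
    rcases eq_or_ne p 2 with rfl | hp2
    · rw [no_normal_char_group hι hirr _ (Cfsg.Lib.Core.pCore_isPGroup 2 G), Subgroup.mem_bot] at ha
      rw [ha, mul_one, one_mul]
    set P := Cfsg.pCore p G
    obtain ⟨j, hj⟩ := (Cfsg.Lib.Core.pCore_isPGroup p G).exists_card_eq
    have hjd : p ^ j ∣ 20158709760 := hj ▸ (Subgroup.card_subgroup_dvd_card P).trans hGL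
    rcases Nat.eq_zero_or_pos j with rfl | hj0
    · rw [pow_zero] at hj
      rw [show P = ⊥ from Subgroup.card_eq_one.1 hj, Subgroup.mem_bot] at ha
      rw [ha, mul_one, one_mul]
    have hconj : ∀ u ∈ P, x * u * x⁻¹ ∈ P := fun u hu => Subgroup.Normal.conj_mem inferInstance u hu x
    haveI : Fintype P := Fintype.ofFinite P
    let f : Function.End P := fun u => ⟨x * u.1 * x⁻¹, hconj u.1 u.2⟩
    have hfi : ∀ (i : ℕ) (u : P), ((f ^ i) u).1 = x ^ i * u.1 * (x ^ i)⁻¹ := by
      intro i
      induction i with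
      | zero => intro u; rw [pow_zero, pow_zero, one_mul, inv_one, mul_one]; rfl
      | succ i ih =>
        intro u
        rw [pow_succ']
        show x * ((f ^ i) u).1 * x⁻¹ = _
        rw [ih, pow_succ']; group
    have hf : f ^ r ^ 1 = 1 := funext fun u => Subtype.ext (by
      rw [hfi, pow_one, ← hx, pow_orderOf_eq_one, one_mul, inv_one, mul_one]; rfl)
    have hmod := Equiv.Perm.card_fixedPoints_modEq hf
    rw [← Nat.card_eq_fintype_card, ← Nat.card_eq_fintype_card, hj] at hmod
    let C := P ⊓ Subgroup.centralizer {x}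
    have hfix : Nat.card (Function.fixedPoints f) = Nat.card C := Nat.card_congr
      { toFun := fun u => ⟨u.1.1, u.1.2, Subgroup.mem_centralizer_singleton_iff.2
          (mul_inv_eq_iff_eq_mul.1 (congrArg Subtype.val u.2)).symm⟩
        invFun := fun u => ⟨⟨u.1, u.2.1⟩, Subtype.ext (mul_inv_eq_iff_eq_mul.2
          (Subgroup.mem_centralizer_singleton_iff.1 u.2.2).symm)⟩
        left_inv := fun u => rfl
        right_inv := fun u => rfl }
    obtain ⟨i, hi⟩ := ((Cfsg.Lib.Core.pCore_isPGroup p G).to_le (inf_le_left : C ≤ P)).exists_card_eq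
    rw [hfix, hi] at hmod
    have hij : i ≤ j := (Nat.pow_le_pow_iff_right hp.one_lt).1
      (hi ▸ hj ▸ Subgroup.card_le_of_le inf_le_left)
    suffices hij' : i = j by
      have hCP : C = P := Subgroup.eq_of_le_of_card_ge inf_le_left (by rw [hi, hj, hij'])
      exact (Subgroup.mem_centralizer_singleton_iff.1 (hCP.symm.le ha).2).symm
    -- if only the identity is centralised, the action on the vectors is semiregular
    have hfree : i = 0 → p ^ j ∣ 63 := by
      intro hi0
      rw [hi0, pow_zero] at hi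
      have hC1 : C = ⊥ := Subgroup.card_eq_one.1 hi
      letI : MulAction P V :=
        { smul := fun g v => ι g v
          one_smul := fun v => show ι 1 v = v by rw [map_one]; rfl
          mul_smul := fun g h v => show ι (g.1 * h.1) v = ι g (ι h v) by rw [map_mul]; rfl }
      have hfree' : ∀ (u : P) (v : V), v ≠ 0 → ι u v = v → u = 1 := by
        intro u v hv huv
        obtain ⟨Q, hQ, hQN⟩ := hcov v hv
        obtain ⟨c, hc⟩ := MulAction.exists_smul_eq G R Q
        have hmemQ : c * x * c⁻¹ ∈ (Q : Subgroup G) := by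
          rw [← hc, Sylow.coe_subgroup_smul, Subgroup.mem_pointwise_smul_iff_inv_smul_mem]
          simpa [MulAut.smul_def, mul_assoc] using hxR
        -- the conjugate of `x` commutes with `u`
        have hk : (u : G) * (c * x * c⁻¹) * (u : G)⁻¹ * (c * x * c⁻¹)⁻¹ ∈ (Q : Subgroup G) ⊓ P := by
          refine ⟨Subgroup.mul_mem _ ((Subgroup.mem_normalizer_iff.1 (hQN u huv) _).1 hmemQ)
            (Subgroup.inv_mem _ hmemQ), ?_⟩
          rw [mul_assoc (u : G) (c * x * c⁻¹), mul_assoc (u : G)]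
          exact Subgroup.mul_mem _ u.2 (Subgroup.Normal.conj_mem inferInstance _ (Subgroup.inv_mem _ u.2) _)
        have hbot : (Q : Subgroup G) ⊓ P = ⊥ :=
          (IsPGroup.disjoint_of_ne p r hpr P _ (Cfsg.Lib.Core.pCore_isPGroup p G) Q.2).symm.eq_bot
        rw [hbot, Subgroup.mem_bot] at hk
        have hcomm : (c⁻¹ * u * c) * x = x * (c⁻¹ * u * c) := by
          have h1 : (u : G) * (c * x * c⁻¹) = c * x * c⁻¹ * u :=
            mul_inv_eq_iff_eq_mul.1 (mul_inv_eq_one.1 hk)
          calc c⁻¹ * u * c * x = c⁻¹ * ((u : G) * (c * x * c⁻¹)) * c := by group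
            _ = c⁻¹ * (c * x * c⁻¹ * u) * c := by rw [h1]
            _ = x * (c⁻¹ * u * c) := by group
        have hmem : c⁻¹ * u * c ∈ C := ⟨by
          simpa using Subgroup.Normal.conj_mem (inferInstance : P.Normal) _ u.2 c⁻¹,
          Subgroup.mem_centralizer_singleton_iff.2 hcomm⟩
        rw [hC1, Subgroup.mem_bot] at hmem
        refine Subtype.ext ?_
        calc (u : G) = c * (c⁻¹ * u * c) * c⁻¹ := by group
          _ = 1 := by rw [hmem, mul_one, mul_inv_cancel]
      have hdvd : Nat.card P ∣ Nat.card {v : V // v ≠ 0} := by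
        letI : MulAction P {v : V // v ≠ 0} :=
          { smul := fun g v => ⟨ι g v.1, fun h => v.2 (inj_ι _ (h.trans (map_zero _).symm))⟩
            one_smul := fun v => Subtype.ext (show ι 1 v.1 = v.1 by rw [map_one]; rfl)
            mul_smul := fun g h v =>
              Subtype.ext (show ι (g.1 * h.1) v.1 = ι g (ι h v.1) by rw [map_mul]; rfl) }
        haveI : Fintype (MulAction.orbitRel.Quotient P {v : V // v ≠ 0}) := Fintype.ofFinite _
        rw [Nat.card_congr (MulAction.selfEquivSigmaOrbits P {v : V // v ≠ 0}), Nat.card_sigma]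
        refine Finset.dvd_sum fun ω _ => ?_
        rw [Nat.card_congr (MulAction.orbitEquivQuotientStabilizer P _)]
        have hst : MulAction.stabilizer P ω.out = ⊥ := by
          rw [eq_bot_iff]
          intro u hu
          exact Subgroup.mem_bot.2 (hfree' u _ ω.out.2 (congrArg Subtype.val hu))
        rw [hst, ← Subgroup.index_eq_card, Subgroup.index_bot]
      haveI := Fintype.ofFinite V
      rw [hj, Nat.card_eq_fintype_card, Fintype.card_subtype_compl, Fintype.card_subtype_eq,
        ← Nat.card_eq_fintype_card, card_V (q := 2), h6] at hdvd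
      exact hdvd
    have hpmem : p = 3 ∨ p = 5 ∨ p = 7 ∨ p = 31 := by
      have hp1 : p ∣ 20158709760 := (dvd_pow_self p hj0.ne').trans hjd
      rw [show 20158709760 = 2 ^ 15 * (3 ^ 4 * (5 * (7 ^ 2 * 31))) by norm_num] at hp1
      have h2 := (Nat.prime_dvd_prime_iff_eq hp Nat.prime_two).1
      have h3 := (Nat.prime_dvd_prime_iff_eq hp Nat.prime_three).1
      have h5 := (Nat.prime_dvd_prime_iff_eq hp (by norm_num : Nat.Prime 5)).1
      have h7 := (Nat.prime_dvd_prime_iff_eq hp (by norm_num : Nat.Prime 7)).1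
      have h31 := (Nat.prime_dvd_prime_iff_eq hp (by norm_num : Nat.Prime 31)).1
      rcases hp.dvd_mul.1 hp1 with h | h
      · exact absurd (h2 (hp.dvd_of_dvd_pow h)) hp2
      rcases hp.dvd_mul.1 h with h | h
      · exact Or.inl (h3 (hp.dvd_of_dvd_pow h))
      rcases hp.dvd_mul.1 h with h | h
      · exact Or.inr (Or.inl (h5 h))
      rcases hp.dvd_mul.1 h with h | h
      · exact Or.inr (Or.inr (Or.inl (h7 (hp.dvd_of_dvd_pow h))))
      · exact Or.inr (Or.inr (Or.inr (h31 h)))
    by_cases h0 : i = 0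
    · have h63 := hfree h0
      subst h0
      rcases hpmem with rfl | rfl | rfl | rfl
      · have : j ≤ 2 := by
          by_contra h
          exact (by norm_num : ¬ 3 ^ 3 ∣ 63) ((pow_dvd_pow 3 (by omega)).trans h63)
        rcases hr31 with rfl | rfl <;> interval_cases j <;> first | rfl | omega | (norm_num [Nat.ModEq] at hmod)
      · exact absurd ((dvd_pow_self 5 hj0.ne').trans h63) (by norm_num)
      · have : j ≤ 1 := by
          by_contra h
          exact (by norm_num : ¬ 7 ^ 2 ∣ 63) ((pow_dvd_pow 7 (by omega)).trans h63)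
        rcases hr31 with rfl | rfl <;> interval_cases j <;> first | rfl | omega | (norm_num [Nat.ModEq] at hmod)
      · exact absurd ((dvd_pow_self 31 hj0.ne').trans h63) (by norm_num)
    · rcases hpmem with rfl | rfl | rfl | rfl
      · have : j ≤ 4 := by
          by_contra h
          exact (by norm_num : ¬ 3 ^ 5 ∣ 20158709760) ((pow_dvd_pow 3 (by omega)).trans hjd)
        rcases hr31 with rfl | rfl <;> interval_cases j <;> interval_cases i <;> first | rfl | omega | (norm_num [Nat.ModEq] at hmod)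
      · have : j ≤ 1 := by
          by_contra h
          exact (by norm_num : ¬ 5 ^ 2 ∣ 20158709760) ((pow_dvd_pow 5 (by omega)).trans hjd)
        omega
      · have : j ≤ 2 := by
          by_contra h
          exact (by norm_num : ¬ 7 ^ 3 ∣ 20158709760) ((pow_dvd_pow 7 (by omega)).trans hjd)
        rcases hr31 with rfl | rfl <;> interval_cases j <;> interval_cases i <;> first | rfl | omega | (norm_num [Nat.ModEq] at hmod)
      · have : j ≤ 1 := by
          by_contra h
          exact (by norm_num : ¬ 31 ^ 2 ∣ 20158709760) ((pow_dvd_pow 31 (by omega)).trans hjd)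
        omega
  haveI := Cfsg.Lib.Core.fittingSubgroup_normal' G
  haveI : (ctr (Cfsg.fittingSubgroup G)).Normal := ctr_normal _
  have hxA := mem_ctr_fitting hcore
  let B : Subgroup G :=
    { carrier := {g | g ∈ ctr (Cfsg.fittingSubgroup G) ∧ g ^ r = 1}
      one_mem' := ⟨one_mem _, one_pow r⟩
      mul_mem' := fun {g h} hg hh => ⟨mul_mem hg.1 hh.1, by
        rw [(show Commute g h from ctr_abelian _ g hg.1 h hh.1).mul_pow, hg.2, hh.2, one_mul]⟩
      inv_mem' := fun {g} hg => ⟨inv_mem hg.1, by rw [inv_pow, hg.2, inv_one]⟩ }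
  haveI : B.Normal := ⟨fun g hg c => ⟨Subgroup.Normal.conj_mem inferInstance g hg.1 c, by
    rw [conj_pow, hg.2, mul_one, mul_inv_cancel]⟩⟩
  have h1 : x ∈ Cfsg.pCore r G := Cfsg.Lib.Core.le_pCore (p := r)
    (N := B) (fun g => ⟨1, Subtype.ext (by simpa using g.2.2)⟩)
    ⟨hxA, by rw [← hx, pow_orderOf_eq_one]⟩
  rw [hOr, Subgroup.mem_bot] at h1
  rw [h1, orderOf_one] at hx
  exact hr.one_lt.ne hx

/-- The exceptional configuration is not covered. -/
theorem not_exceptional [Group.IsSolvable G] {z : ℕ} (hz : z.Prime) (hι : Function.Injective ι)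
    (e : Exceptional ι z) {r : ℕ} [Fact r.Prime] (hcov : Cover ι r)
    (hzn : z ∣ Nat.card (Sylow r G)) (hzN : ∃ x : G, orderOf x = z) : False := by
  classical
  obtain ⟨m, A, N, hAn, hNn, hq, hm, hdim, hzm, hcentral, hf, hAN, hz', h2, hsq, hcomm, hrel, hcent⟩ := e
  haveI := hAn
  haveI := hNn
  have hr : r.Prime := Fact.out
  haveI : Fact z.Prime := ⟨hz⟩
  obtain ⟨v, hv⟩ := exists_ne (0 : V)
  rcases eq_or_ne r 2 with rfl | hr2
  · -- the central involution fixes no vector
    obtain ⟨y', hy'⟩ := exists_prime_orderOf_dvd_card' (G := A) 2 h2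
    obtain ⟨y, hydef⟩ : ∃ y : G, (y' : G) = y := ⟨_, rfl⟩
    have hy : orderOf y = 2 := by rw [← hydef, Subgroup.orderOf_coe]; exact hy'
    obtain ⟨Q, hQ, -⟩ := hcov v hv
    have hyc : y ∈ Subgroup.center G := hcentral (hydef ▸ y'.2)
    haveI : (Subgroup.zpowers y).Normal := ⟨fun a ha g => by
      have hac : a ∈ Subgroup.center G := Subgroup.zpowers_le.2 hyc ha
      rwa [Subgroup.mem_center_iff.1 hac g, mul_inv_cancel_right]⟩
    have hyQ : y ∈ (Q : Subgroup G) :=
      le_sylow_of_normal (IsPGroup.of_card (n := 1) (by rw [Nat.card_zpowers, hy, pow_one])) Q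
        (Subgroup.mem_zpowers y)
    rw [eq_one_of_fixed hι hf (hydef ▸ y'.2) hv (hQ y hyQ), orderOf_one] at hy
    omega
  -- the action on `N / A`
  obtain ⟨x, hx⟩ := hzN
  let E := N.map (QuotientGroup.mk' A)
  haveI : E.Normal := hNn.map _ (QuotientGroup.mk'_surjective A)
  have hEc : ∀ a b : E, a * b = b * a := by
    rintro ⟨_, a, ha, rfl⟩ ⟨_, b, hb, rfl⟩
    refine Subtype.ext ?_
    show QuotientGroup.mk' A a * QuotientGroup.mk' A b = QuotientGroup.mk' A b * QuotientGroup.mk' A a
    refine mul_inv_eq_one.1 ?_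
    rw [mul_inv_rev, ← map_mul, ← map_inv, ← map_inv, ← map_mul, ← map_mul]
    refine (QuotientGroup.eq_one_iff _).2 ?_
    rw [show a * b * (a⁻¹ * b⁻¹) = a * b * a⁻¹ * b⁻¹ by group]
    exact hcomm a ha b hb
  letI : CommGroup E := { (inferInstance : Group E) with mul_comm := hEc }
  let W := Additive E
  have hW2 : ∀ w : W, 2 • w = 0 := by
    intro w
    apply Additive.toMul.injective
    obtain ⟨⟨_, a, ha, rfl⟩, rfl⟩ := Additive.ofMul.surjective w
    rw [toMul_nsmul, toMul_zero]
    refine Subtype.ext ?_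
    show QuotientGroup.mk' A a ^ 2 = 1
    rw [← map_pow]
    exact (QuotientGroup.eq_one_iff _).2 (hsq a ha)
  letI : Module (ZMod 2) W := AddCommGroup.zmodModule hW2
  let φ : G →* MulAut E := MulAut.conjNormal.comp (QuotientGroup.mk' A)
  let ι₀ : G →* Module.End (ZMod 2) W :=
    { toFun := fun g => (MonoidHom.toAdditive (φ g).toMonoidHom).toZModLinearMap 2
      map_one' := LinearMap.ext fun w => by rw [map_one]; rfl
      map_mul' := fun g h => LinearMap.ext fun w => by rw [map_mul]; rfl }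
  have hι₀ : ∀ g, ι₀ g = 1 ↔ g ∈ N := by
    intro g
    constructor
    · intro hg
      refine hcent g fun b hb => ?_
      have h0 := congrArg (fun f : Module.End (ZMod 2) W =>
        ((Additive.toMul (f (Additive.ofMul ⟨_, Subgroup.mem_map_of_mem (QuotientGroup.mk' A) hb⟩)) : E) :
          G ⧸ A)) hg
      have h0' : QuotientGroup.mk' A g * QuotientGroup.mk' A b * (QuotientGroup.mk' A g)⁻¹ =
        QuotientGroup.mk' A b := h0
      refine (QuotientGroup.eq_one_iff _).1 ?_
      show QuotientGroup.mk' A (g * b * g⁻¹ * b⁻¹) = 1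
      rw [map_mul, map_mul, map_mul, map_inv, map_inv, h0', mul_inv_cancel]
    · intro hg
      refine LinearMap.ext fun w => ?_
      obtain ⟨⟨_, b, hb, rfl⟩, rfl⟩ := Additive.ofMul.surjective w
      apply Additive.toMul.injective
      refine Subtype.ext ?_
      show QuotientGroup.mk' A g * QuotientGroup.mk' A b * (QuotientGroup.mk' A g)⁻¹ = QuotientGroup.mk' A b
      rw [← map_inv, ← map_mul, ← map_mul]
      refine (QuotientGroup.eq.2 ?_).symm
      rw [show b⁻¹ * (g * b * g⁻¹) = b⁻¹ * (g * b * g⁻¹ * b⁻¹) * b⁻¹⁻¹ by group]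
      exact hAn.conj_mem _ (hcomm g hg b hb) _
  let ι₁ : G ⧸ N →* Module.End (ZMod 2) W := QuotientGroup.lift N ι₀ fun g hg => (hι₀ g).2 hg
  have hι₁ : Function.Injective ι₁ := by
    intro a b hab
    induction a using QuotientGroup.induction_on with
    | H a =>
      induction b using QuotientGroup.induction_on with
      | H b =>
        have hab' : ι₀ a = ι₀ b := hab
        refine QuotientGroup.eq.2 ((hι₀ _).1 ?_)
        rw [map_mul, ← hab', ← map_mul, inv_mul_cancel, map_one]
  have hEcard : Nat.card W = 2 ^ (2 * m) := by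
    rw [← hrel, Nat.card_congr Additive.toMul, show E = N.map (QuotientGroup.mk' A) from rfl, Subgroup.relIndex,
      show A.subgroupOf N = ((QuotientGroup.mk' A).comp N.subtype).ker by
        rw [← MonoidHom.comap_ker, QuotientGroup.ker_mk']; rfl,
      Subgroup.index_ker, MonoidHom.range_comp, Subgroup.range_subtype]
  haveI : Nontrivial W := Finite.one_lt_card_iff_nontrivial.1 (by rw [hEcard]; exact Nat.one_lt_pow (by omega) one_lt_two)
  have hWdim : Module.finrank (ZMod 2) W = 2 * m :=
    Nat.pow_right_injective le_rfl ((card_V (q := 2) (V := W)).symm.trans hEcard)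
  have hpm : 1 < 2 ^ m := Nat.one_lt_pow hm.ne' one_lt_two
  have hsplit : 2 ^ (2 * m) - 1 = (2 ^ m + 1) * (2 ^ m - 1) := by
    rw [← Nat.sq_sub_sq, one_pow, ← pow_mul, mul_comm]
  have hz2 : z ∣ 2 ^ (2 * m) - 1 := by rw [hsplit, hzm]; exact dvd_mul_right _ _
  have hzppd : ∀ k, 0 < k → k < 2 * m → ¬ z ∣ 2 ^ k - 1 := by
    intro k hk hk2 hd
    have hg := Nat.dvd_gcd hd hz2
    rw [Nat.pow_sub_one_gcd_pow_sub_one] at hg
    obtain ⟨c, hc⟩ := Nat.gcd_dvd_right k (2 * m)
    have hle2 := Nat.le_of_dvd hk (Nat.gcd_dvd_left k (2 * m))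
    have hgpos : 0 < Nat.gcd k (2 * m) := Nat.gcd_pos_of_pos_left _ hk
    have hgle : Nat.gcd k (2 * m) ≤ m := by
      rcases c with _ | _ | c
      · omega
      · omega
      · have h' := Nat.mul_le_mul_left (Nat.gcd k (2 * m)) (show 2 ≤ c + 1 + 1 by omega)
        rw [← hc] at h'
        omega
    have h4 : 2 ^ Nat.gcd k (2 * m) ≤ 2 ^ m := Nat.pow_le_pow_right two_pos hgle
    have h5 : 2 ≤ 2 ^ Nat.gcd k (2 * m) := Nat.le_self_pow hgpos.ne' 2
    have := Nat.le_of_dvd (by omega) hg
    omega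
  have hNcard : Nat.card N = Nat.card A * 2 ^ (2 * m) := by
    rw [← hrel, ← (A.subgroupOf N).card_mul_index, Nat.card_congr (Subgroup.subgroupOfEquivOfLe hAN).toEquiv]
    rfl
  have hzN : ¬ z ∣ Nat.card N := by
    rw [hNcard]
    intro hd
    rcases hz.dvd_mul.1 hd with h | h
    · exact hz' h
    · have := (Nat.prime_dvd_prime_iff_eq hz Nat.prime_two).1 (hz.dvd_of_dvd_pow h)
      omega
  have hxb : orderOf (QuotientGroup.mk' N x) = z := by
    rcases (Nat.dvd_prime hz).1 (hx ▸ orderOf_map_dvd (QuotientGroup.mk' N) x) with h | h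
    · have hxN : x ∈ N := (QuotientGroup.eq_one_iff x).1 (orderOf_eq_one_iff.1 h)
      exact absurd (hx ▸ N.orderOf_dvd_natCard hxN) hzN
    · exact h
  have hxirr : IrredElem ι₁ (QuotientGroup.mk' N x) :=
    irred_of_ppd hι₁ hz hxb (hWdim ▸ hz2) (fun k hk hk2 => hzppd k hk (hWdim ▸ hk2))
  have hirr : Irreducible' ι₁ := fun U hU => hxirr U (hU _)
  haveI : Group.IsSolvable (G ⧸ N) := Group.isSolvable_of_surjective (QuotientGroup.mk'_surjective N)
  rcases ppd_structure hι₁ hirr hz (hWdim ▸ hz2) (fun k hk hk2 => hzppd k hk (hWdim ▸ hk2)) hxb with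
    ⟨B, hBn, hBc, hBf, hBC, hxB⟩ | he'
  swap
  · obtain ⟨e'⟩ := he'
    exact e'.hq rfl
  haveI := hBn
  have hidx : B.index ∣ 2 * m := hWdim ▸ index_dvd_finrank hι₁ hBc hBf hBC.le hxB hxirr
  obtain ⟨k, rfl⟩ : ∃ k, m = 2 ^ k :=
    Nat.pow_of_pow_add_prime (a := 2) one_lt_two hm.ne' (hzm ▸ hz)
  let R : Sylow r G := default
  let T : Sylow r (G ⧸ N) := R.mapSurjective (QuotientGroup.mk'_surjective N)
  have hTB : (T : Subgroup (G ⧸ N)) ≤ B := by
    intro t ht
    obtain ⟨i, hi⟩ := T.2 ⟨t, ht⟩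
    rw [← QuotientGroup.eq_one_iff (N := B), ← orderOf_eq_one_iff]
    have h1 : orderOf (t : (G ⧸ N) ⧸ B) ∣ r ^ i := by
      refine orderOf_dvd_of_pow_eq_one ?_
      rw [← QuotientGroup.mk_pow]
      have h' : t ^ r ^ i = 1 := congrArg Subtype.val hi
      rw [h', QuotientGroup.mk_one]
    have h3 : orderOf (t : (G ⧸ N) ⧸ B) ∣ 2 ^ (k + 1) := by
      rw [pow_succ, mul_comm]
      exact (orderOf_dvd_natCard _).trans (B.index_eq_card ▸ hidx)
    exact Nat.eq_one_of_dvd_coprimes (((Nat.coprime_primes hr Nat.prime_two).2 hr2).pow _ _) h1 h3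
  have hTn : (T : Subgroup (G ⧸ N)).Normal := by
    refine ⟨fun t ht g => ?_⟩
    -- a conjugate and `T` generate an `r`-group in the abelian group `B`
    let S : Subgroup (G ⧸ N) :=
      { carrier := {b | b ∈ B ∧ ∃ i, b ^ r ^ i = 1}
        one_mem' := ⟨B.one_mem, 0, by simp⟩
        mul_mem' := fun {a b} ha hb => by
          obtain ⟨i, hi⟩ := ha.2
          obtain ⟨j, hj⟩ := hb.2
          refine ⟨B.mul_mem ha.1 hb.1, i + j, ?_⟩
          rw [(show Commute a b from hBc a ha.1 b hb.1).mul_pow, pow_add, pow_mul, hi, one_pow, mul_comm,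
            pow_mul, hj, one_pow, one_mul]
        inv_mem' := fun {a} ha => by
          obtain ⟨i, hi⟩ := ha.2
          exact ⟨B.inv_mem ha.1, i, by rw [inv_pow, hi, inv_one]⟩ }
    have hTS : (T : Subgroup (G ⧸ N)) ≤ S := fun t ht => ⟨hTB ht, by
      obtain ⟨i, hi⟩ := T.2 ⟨t, ht⟩
      exact ⟨i, congrArg Subtype.val hi⟩⟩
    have hS : IsPGroup r S := fun b => by
      obtain ⟨i, hi⟩ := b.2.2
      exact ⟨i, Subtype.ext hi⟩
    have heq : S = (T : Subgroup (G ⧸ N)) := T.3 hS hTS
    rw [← heq]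
    obtain ⟨hb, i, hi⟩ := hTS ht
    exact ⟨hBn.conj_mem t hb g, i, by rw [conj_pow, hi, mul_one, mul_inv_cancel]⟩
  haveI : ((T : Subgroup (G ⧸ N)).comap (QuotientGroup.mk' N)).Normal := hTn.comap _
  set K := (T : Subgroup (G ⧸ N)).comap (QuotientGroup.mk' N) with hK
  have hRK : (R : Subgroup G) ≤ K := fun g hg => ⟨g, hg, rfl⟩
  have hKle : K = (R : Subgroup G) ⊔ N := by
    rw [hK, Sylow.coe_mapSurjective, Subgroup.comap_map_eq, QuotientGroup.ker_mk']
  haveI : Finite (Sylow r K) := inferInstance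
  have hfrat : Subgroup.normalizer (((R.subtype hRK : Sylow r K) : Subgroup K).map K.subtype : Set G) ⊔ K = ⊤ :=
    Sylow.normalizer_sup_eq_top _
  rw [Sylow.coe_subtype, Subgroup.map_subgroupOf_eq_of_le hRK] at hfrat
  have hNR : Subgroup.normalizer ((R : Subgroup G) : Set G) ⊔ N = ⊤ := by
    rw [eq_top_iff, ← hfrat, hKle]
    exact sup_le le_sup_left (sup_le (Subgroup.le_normalizer.trans le_sup_left) le_sup_right)
  have hdvd : Nat.card (Sylow r G) ∣ Nat.card N := by
    rw [R.card_eq_index_normalizer]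
    set NR := Subgroup.normalizer ((R : Subgroup G) : Set G)
    have h1 : N.index = N.relIndex NR := by
      rw [← Subgroup.relIndex_top_right, ← hNR, Subgroup.relIndex_sup_right]
    have h2 : Nat.card (N.subgroupOf NR) * N.relIndex NR = Nat.card NR :=
      Subgroup.card_mul_index _
    have h3 : NR.index * (Nat.card (N.subgroupOf NR) * N.relIndex NR) = Nat.card N * N.relIndex NR := by
      rw [h2, mul_comm, NR.card_mul_index, ← h1, N.card_mul_index]
    rw [← mul_assoc] at h3
    exact Dvd.intro _ (Nat.eq_of_mul_eq_mul_right (Nat.pos_of_ne_zero Subgroup.FiniteIndex.index_ne_zero) h3)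
  exact hzN (hzn.trans hdvd)

/-- Two covering primes force a self-centralising cyclic normal subgroup of index divisible by both. -/
theorem exists_selfCentral [Group.IsSolvable G] (hι : Function.Injective ι) (hirr : Irreducible' ι)
    {r t : ℕ} [Fact r.Prime] [Fact t.Prime] (hrt : r ≠ t) (hr : Cover ι r) (ht : Cover ι t)
    (hrG : r ∣ Nat.card G) (htG : t ∣ Nat.card G) :
    ∃ A : Subgroup G, A.Normal ∧ IsCyclic A ∧ Subgroup.centralizer (A : Set G) = A ∧ r ∣ A.index ∧
      t ∣ A.index := by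
  classical
  have hq : q.Prime := Fact.out
  obtain ⟨hcard, hlt, hpos, hn1, hdiv⟩ := cover_count hι hirr hr hrG default
  obtain ⟨hcard', hlt', hpos', hn1', hdiv'⟩ := cover_count hι hirr ht htG default
  rcases (show Module.finrank (ZMod q) V = 2 ∨ 3 ≤ Module.finrank (ZMod q) V by omega) with h2 | h3
  · exfalso
    have key : ∀ s : ℕ, s.Prime → ∀ n b : ℕ, q ^ 2 - 1 = n * (q ^ b - 1) → b < 2 → 0 < b →
        s ∣ n - 1 → s = q := by
      intro s hs n b h hb hb0 hd
      rw [show b = 1 by omega, pow_one] at h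
      have hn : n = q + 1 := by
        have e : q ^ 2 - 1 = (q + 1) * (q - 1) := by rw [← Nat.sq_sub_sq, one_pow]
        rw [e] at h
        exact (Nat.eq_of_mul_eq_mul_right (by have := hq.two_le; omega) h).symm
      rw [hn, Nat.add_sub_cancel] at hd
      exact (Nat.prime_dvd_prime_iff_eq hs hq).1 hd
    rw [h2] at hcard hcard' hlt hlt'
    exact hrt ((key r Fact.out _ _ hcard hlt hpos hdiv).trans (key t Fact.out _ _ hcard' hlt' hpos' hdiv').symm)
  by_cases h26 : q = 2 ∧ Module.finrank (ZMod q) V = 6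
  · exact absurd ((eq_two_of_six hι hirr hr hrG h26.1 h26.2).trans
      (eq_two_of_six hι hirr ht htG h26.1 h26.2).symm) hrt
  obtain ⟨z, hz, hzd, hppd⟩ := Cfsg.Agent.S2904.result q _ hq.one_lt (by omega) h26 (fun h => by omega)
  haveI : Fact z.Prime := ⟨hz⟩
  have hzn : ∀ n b : ℕ, q ^ Module.finrank (ZMod q) V - 1 = n * (q ^ b - 1) →
      b < Module.finrank (ZMod q) V → 0 < b → z ∣ n := fun n b h hb hb0 =>
    (hz.dvd_mul.1 (h ▸ hzd)).resolve_right (hppd b hb0 hb)
  have hzr := hzn _ _ hcard hlt hpos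
  have hdvdG : Nat.card (Sylow r G) ∣ Nat.card G := by
    rw [(default : Sylow r G).card_eq_index_normalizer]
    exact Subgroup.index_dvd_card _
  obtain ⟨x, hx⟩ := exists_prime_orderOf_dvd_card' (G := G) z (hzr.trans hdvdG)
  rcases ppd_structure hι hirr hz hzd hppd hx with ⟨A, hAn, hAc, hAf, hAC, -⟩ | he
  swap
  · obtain ⟨e⟩ := he
    exact (not_exceptional hz hι e hr hzr ⟨x, hx⟩).elim
  haveI := hAn
  refine ⟨A, hAn, isCyclic_of_fieldLike hι hAc hAf, hAC, ?_, ?_⟩
  all_goals
    obtain ⟨v, hv⟩ := exists_ne (0 : V)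
    first
      | (obtain ⟨R, hR, -⟩ := hr v hv
         refine (dvd_trans ?_ (A.relIndex_dvd_index_of_normal (R : Subgroup G)))
         have hbot : A.subgroupOf (R : Subgroup G) = ⊥ := by
           rw [eq_bot_iff]
           intro a ha
           exact Subgroup.mem_bot.2 (Subtype.ext
             (eq_one_of_fixed hι hAf (Subgroup.mem_subgroupOf.1 ha) hv (hR a a.2)))
         rw [Subgroup.relIndex, hbot, Subgroup.index_bot]
         exact R.dvd_card_of_dvd_card hrG)
      | (obtain ⟨R, hR, -⟩ := ht v hv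
         refine (dvd_trans ?_ (A.relIndex_dvd_index_of_normal (R : Subgroup G)))
         have hbot : A.subgroupOf (R : Subgroup G) = ⊥ := by
           rw [eq_bot_iff]
           intro a ha
           exact Subgroup.mem_bot.2 (Subtype.ext
             (eq_one_of_fixed hι hAf (Subgroup.mem_subgroupOf.1 ha) hv (hR a a.2)))
         rw [Subgroup.relIndex, hbot, Subgroup.index_bot]
         exact R.dvd_card_of_dvd_card htG)

end Cfsg.Lib.Char.ThreePrime
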