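import Cfsg.Agent.Lib.Char.ThreePrime.CaseA
import Cfsg.Agent.Lib.Char.ThreePrime.CaseB
import Cfsg.Agent.Lib.Local.PStableAbelian

/-!
# No three pairwise unlinked primes
-/

set_option autoImplicit false
set_option linter.unusedSectionVars false
set_option linter.style.haveILetI false

universe u

namespace Cfsg.Lib.Char.ThreePrime

open Cfsg Cfsg.Lib.Char

variable {G : Type u} [Group G] [Finite G] [Group.IsSolvable G]

/-- A minimal normal subgroup whose quotient has degrees prime to one of the primes is impossible. -/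
theorem Bad.false_of_quotient {p q r : ℕ} (hB : Bad p q r G) {N : Subgroup G} [N.Normal]
    (hmin : Cfsg.Lib.Core.IsMinNormal N) (hdeg : Lib.Block.DegreesPrimeTo p (G ⧸ N)) : False := by
  classical
  haveI : Fact p.Prime := ⟨hB.hp⟩
  haveI : Fact q.Prime := ⟨hB.hq⟩
  haveI : Fact r.Prime := ⟨hB.hr⟩
  obtain ⟨hNc, l, hl, hexp, hNl⟩ := Cfsg.Lib.Core.minimal_solvable_elementary hmin inferInstance
  haveI : Fact l.Prime := ⟨hl⟩
  obtain rfl := eq_of_degreesPrimeTo_quotient hB hmin hNc hexp hNl hdeg
  let P : Sylow l G := default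
  have hNP : N ≤ (P : Subgroup G) := le_sylow_of_normal hNl P
  obtain ⟨hn, hc⟩ := exists_sylow_of_degreesPrimeTo hdeg (P.mapSurjective (QuotientGroup.mk'_surjective N))
  rw [Sylow.coe_mapSurjective] at hn hc
  haveI hPn : (P : Subgroup G).Normal := by
    have h := hn.comap (QuotientGroup.mk' N)
    rwa [Subgroup.comap_map_eq, QuotientGroup.ker_mk', sup_of_le_left hNP] at h
  have hle : ⁅(P : Subgroup G), (P : Subgroup G)⁆ ≤ N := by
    rw [Subgroup.commutator_le]
    intro a ha b hb
    have h := hc a ⟨a, ha, rfl⟩ b ⟨b, hb, rfl⟩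
    rw [← QuotientGroup.eq_one_iff, commutatorElement_def, QuotientGroup.mk_mul, QuotientGroup.mk_mul,
      QuotientGroup.mk_mul, QuotientGroup.mk_inv, QuotientGroup.mk_inv, h, mul_inv_cancel_right,
      mul_inv_cancel]
  have hcomm : ⁅(P : Subgroup G), (P : Subgroup G)⁆ = N := by
    refine (hmin.2.2 _ inferInstance hle).resolve_left fun h => hB.dp (degreesPrimeTo_of_sylow P hPn ?_)
    intro a ha b hb
    have h1 := Subgroup.commutator_mem_commutator ha hb
    rw [h, Subgroup.mem_bot, commutatorElement_eq_one_iff_mul_comm] at h1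
    exact h1
  have hcent : ∀ k ∈ (P : Subgroup G), ∀ a ∈ N, k * a = a * k := by
    intro k hk a ha
    have h := (Cfsg.Lib.Local.isElementaryAbelian_of_minimal hNl hmin.2.1 hmin.2.2 P.2).2 hk
    exact (Subgroup.mem_centralizer_iff.1 h a ha).symm
  have hcop : (Nat.card (P : Subgroup G)).Coprime (P : Subgroup G).index := P.card_coprime_index
  obtain ⟨H, hH⟩ := Subgroup.exists_right_complement'_of_coprime hcop
  have S : Top l (P : Subgroup G) N H :=
    { pn := hPn
      nn := ‹N.Normal›
      pp := P.2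
      comm := hcomm
      min := hmin
      cent := hcent
      exp := hexp
      disj := hH.disjoint.eq_bot
      sup := hH.sup_eq_top
      cop := by
        rw [← hH.symm.index_eq_card]
        exact hcop }
  letI := Fintype.ofFinite G
  letI := Fintype.ofFinite (P : Subgroup G)
  letI := Fintype.ofFinite N
  exact S.linked (q := q) (r := r) hB

theorem not_bad_aux (n : ℕ) : ∀ (G : Type u) [Group G] [Finite G] [Group.IsSolvable G], Nat.card G = n →
    ∀ p q r : ℕ, ¬ Bad p q r G := by
  induction n using Nat.strong_induction_on with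
  | _ n ih =>
    intro G _ _ _ hn p q r hB
    classical
    haveI : Nontrivial G := by
      by_contra h
      rw [not_nontrivial_iff_subsingleton] at h
      letI := Fintype.ofFinite G
      refine hB.dp fun χ hd => hB.hp.not_dvd_one ?_
      have h1 := degree_dvd_card χ.2 χ.2.apply_one_eq_charDegree
      rw [Nat.card_eq_one_iff_unique.2 ⟨h, inferInstance⟩] at h1
      exact hd.trans h1
    obtain ⟨N, hN⟩ := Cfsg.Lib.Core.exists_isMinNormal_univ (G := G)
    haveI := hN.1
    have hlt : Nat.card (G ⧸ N) < n := by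
      rw [← hn, ← Subgroup.index_eq_card, ← N.card_mul_index]
      refine lt_mul_of_one_lt_left (Nat.pos_of_ne_zero Subgroup.index_ne_zero_of_finite) ?_
      exact (Subgroup.one_lt_card_iff_ne_bot N).2 hN.2.1
    have hnl : ∀ {a b : ℕ}, ¬ Linked a b G → ¬ Linked a b (G ⧸ N) := fun h hl =>
      h (linked_of_surjective (QuotientGroup.mk' N) (QuotientGroup.mk'_surjective N) hl)
    have hq := ih _ hlt (G ⧸ N) rfl p q r
    by_cases h1 : Lib.Block.DegreesPrimeTo p (G ⧸ N)
    · exact hB.false_of_quotient hN h1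
    by_cases h2 : Lib.Block.DegreesPrimeTo q (G ⧸ N)
    · exact hB.rotate.false_of_quotient hN h2
    by_cases h3 : Lib.Block.DegreesPrimeTo r (G ⧸ N)
    · exact hB.rotate.rotate.false_of_quotient hN h3
    exact hq ⟨hB.hp, hB.hq, hB.hr, hB.hpq, hB.hqr, hB.hpr, hnl hB.npq, hnl hB.nqr, hnl hB.npr, h1, h2, h3⟩

/-- Among three primes dividing degrees two are linked. -/
theorem linked_of_three {p q r : ℕ} (hp : p.Prime) (hq : q.Prime) (hr : r.Prime) (hpq : p ≠ q)
    (hqr : q ≠ r) (hpr : p ≠ r) (hpd : ∃ χ : IrrCharacter G, p ∣ charDegree (χ : G → ℂ))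
    (hqd : ∃ χ : IrrCharacter G, q ∣ charDegree (χ : G → ℂ))
    (hrd : ∃ χ : IrrCharacter G, r ∣ charDegree (χ : G → ℂ)) :
    Linked p q G ∨ Linked q r G ∨ Linked p r G := by
  by_contra h
  rw [not_or, not_or] at h
  exact not_bad_aux _ G rfl p q r ⟨hp, hq, hr, hpq, hqr, hpr, h.1, h.2.1, h.2.2,
    fun e => hpd.elim fun χ hχ => e χ hχ, fun e => hqd.elim fun χ hχ => e χ hχ,
    fun e => hrd.elim fun χ hχ => e χ hχ⟩

end Cfsg.Lib.Char.ThreePrime
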