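import Cfsg.Agent.Lib.Char.ThreePrime.Dual
import Cfsg.Agent.Lib.Core.PSolvable

/-!
# A group with three unlinked primes
-/

set_option autoImplicit false
set_option linter.unusedSectionVars false
set_option linter.style.haveILetI false

universe u

namespace Cfsg.Lib.Char.ThreePrime

open Cfsg Cfsg.Lib.Char Cfsg.Lib.Char.RelDeg

variable {G : Type u} [Group G]

/-- Three primes dividing degrees, no two of them dividing a common one. -/
structure Bad (p q r : ℕ) (G : Type u) [Group G] : Prop where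
  hp : p.Prime
  hq : q.Prime
  hr : r.Prime
  hpq : p ≠ q
  hqr : q ≠ r
  hpr : p ≠ r
  npq : ¬ Linked p q G
  nqr : ¬ Linked q r G
  npr : ¬ Linked p r G
  dp : ¬ Lib.Block.DegreesPrimeTo p G
  dq : ¬ Lib.Block.DegreesPrimeTo q G
  dr : ¬ Lib.Block.DegreesPrimeTo r G

theorem Bad.rotate {p q r : ℕ} (h : Bad p q r G) : Bad q r p G :=
  ⟨h.hq, h.hr, h.hp, h.hqr, h.hpr.symm, h.hpq.symm, h.nqr, fun e => h.npr (linked_symm e),
    fun e => h.npq (linked_symm e), h.dq, h.dr, h.dp⟩

theorem Bad.swap {p q r : ℕ} (h : Bad p q r G) : Bad p r q G :=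
  ⟨h.hp, h.hr, h.hq, h.hpr, h.hqr.symm, h.hpq, h.npr, fun e => h.nqr (linked_symm e), h.npq,
    h.dp, h.dr, h.dq⟩

/-- The action of a subgroup on the linear characters of a normal subgroup. -/
def dualAct (N H : Subgroup G) [N.Normal] : H →* MulAut (N →* ℂˣ) where
  toFun h :=
    { toFun := fun l => twHom N l (h : G)⁻¹
      invFun := fun l => twHom N l (h : G)
      left_inv := fun l => MonoidHom.ext fun a => congrArg l (Subtype.ext (by
        simp [mul_assoc]))
      right_inv := fun l => MonoidHom.ext fun a => congrArg l (Subtype.ext (by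
        simp [mul_assoc]))
      map_mul' := fun _ _ => rfl }
  map_one' := MulEquiv.ext fun l => MonoidHom.ext fun a => congrArg l (Subtype.ext (by simp))
  map_mul' a b := MulEquiv.ext fun l => MonoidHom.ext fun x => congrArg l (Subtype.ext (by
    simp [mul_assoc]))

theorem dualAct_fixed [Fintype G] (N H : Subgroup G) [N.Normal] (h : H) (l : N →* ℂˣ) :
    dualAct N H h l = l ↔ (h : G) ∈ inertia N (lin l) := by
  rw [← inv_mem_iff, mem_inertia_lin]
  rfl

section Abelian

variable [Finite G] (N : Subgroup G) (hN : IsMulCommutative N)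

include hN

theorem finite_dual : Finite (N →* ℂˣ) := by
  haveI := hN
  letI : CommGroup N := IsMulCommutative.instCommGroup
  exact Nat.finite_of_card_ne_zero (by rw [card_monoidHom_units]; exact Nat.card_pos.ne')

theorem card_dual : Nat.card (N →* ℂˣ) = Nat.card N := by
  haveI := hN
  letI : CommGroup N := IsMulCommutative.instCommGroup
  exact card_monoidHom_units N

theorem exists_dual_ne_one {a : N} (ha : a ≠ 1) : ∃ l : N →* ℂˣ, l a ≠ 1 := by
  haveI := hN
  letI : CommGroup N := IsMulCommutative.instCommGroup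
  exact RamifiedSolvable.exists_apply_ne_one ha

theorem dual_eq_top {S : Subgroup (N →* ℂˣ)} (h : ∀ a : N, (∀ l ∈ S, l a = 1) → a = 1) : S = ⊤ := by
  haveI := hN
  letI : CommGroup N := IsMulCommutative.instCommGroup
  exact RamifiedSolvable.eq_top_of_separates h

theorem nontrivial_dual (hne : N ≠ ⊥) : Nontrivial (N →* ℂˣ) := by
  obtain ⟨a, ha⟩ := Subgroup.ne_bot_iff_exists_ne_one.1 hne
  obtain ⟨l, hl⟩ := exists_dual_ne_one N hN ha
  exact nontrivial_of_ne l 1 fun e => hl (by rw [e]; rfl)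

/-- An element acting trivially on the dual centralises. -/
theorem commute_of_ker [N.Normal] (H : Subgroup G) {h : H} (hh : h ∈ (dualAct N H).ker) {a : G}
    (ha : a ∈ N) : (h : G) * a = a * h := by
  by_contra hne
  have h1 : (MulAut.conjNormal (h : G)⁻¹ ⟨a, ha⟩ : N) * ⟨a, ha⟩⁻¹ ≠ 1 := fun e => hne (by
    have e1 := congrArg Subtype.val (mul_inv_eq_one.1 e)
    rw [MulAut.conjNormal_apply] at e1
    calc (h : G) * a = h * ((h : G)⁻¹ * a * (h : G)⁻¹⁻¹) := by rw [e1]
      _ = a * h := by group)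
  obtain ⟨l, hl⟩ := exists_dual_ne_one N hN h1
  have h2 := DFunLike.congr_fun (MulEquiv.ext_iff.1 (MonoidHom.mem_ker.1 hh) l) ⟨a, ha⟩
  refine hl ?_
  rw [map_mul, map_inv l]
  exact mul_inv_eq_one.2 h2

end Abelian

/-- Cover data for a prime. -/
def DualCover [Finite G] (N H : Subgroup G) [N.Normal] (r : ℕ) : Prop :=
  ∀ l : N →* ℂˣ, l ≠ 1 → ∃ R : Sylow r H, (∀ g ∈ (R : Subgroup H), dualAct N H g l = l) ∧
    (∀ g, dualAct N H g l = l → g ∈ Subgroup.normalizer ((R : Subgroup H) : Set H)) ∧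
    ∀ a ∈ (R : Subgroup H), ∀ b ∈ (R : Subgroup H), a * b = b * a

/-- A Sylow subgroup acting trivially is normal and abelian. -/
theorem DualCover.normal [Finite G] {N H : Subgroup G} [N.Normal] {r : ℕ} [Fact r.Prime]
    (hN : IsMulCommutative N) (hne : N ≠ ⊥) (hc : DualCover N H r) (R : Sylow r H)
    (hR : (R : Subgroup H) ≤ (dualAct N H).ker) :
    (R : Subgroup H).Normal ∧ ∀ a ∈ (R : Subgroup H), ∀ b ∈ (R : Subgroup H), a * b = b * a := by
  haveI := nontrivial_dual N hN hne
  obtain ⟨l, hl⟩ := exists_ne (1 : N →* ℂˣ)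
  obtain ⟨Q, -, hQn, hQc⟩ := hc l hl
  have key : ∀ R' : Sylow r H, R' = Q := fun R' => by
    have hle : (R' : Subgroup H) ≤ (dualAct N H).ker := by
      obtain ⟨g, rfl⟩ := MulAction.exists_smul_eq H R R'
      rintro _ ⟨x, hx, rfl⟩
      exact (dualAct N H).normal_ker.conj_mem x (hR hx) g
    have h := hle.trans (fun g hg => hQn g (by
      have := MulEquiv.ext_iff.1 (MonoidHom.mem_ker.1 hg) l
      simpa using this) : (dualAct N H).ker ≤ _)
    haveI : ((Q.subtype Subgroup.le_normalizer :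
        Sylow r ↥(Subgroup.normalizer ((Q : Subgroup H) : Set H))) :
        Subgroup ↥(Subgroup.normalizer ((Q : Subgroup H) : Set H))).Normal :=
      Subgroup.normal_in_normalizer
    have := Sylow.unique_of_normal _ ‹_›
    exact Sylow.subtype_injective (hP := h) (hQ := Subgroup.le_normalizer) (Subsingleton.elim _ _)
  haveI : Subsingleton (Sylow r H) := ⟨fun a b => (key a).trans (key b).symm⟩
  exact ⟨R.normal_of_subsingleton, by rw [key R]; exact hQc⟩

/-- A complement is a quotient. -/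
theorem linked_complement [Finite G] (K H : Subgroup G) [K.Normal] (hdisj : K ⊓ H = ⊥) (hsup : K ⊔ H = ⊤)
    {r t : ℕ} (h : Linked r t H) : Linked r t G := by
  let e : H →* G ⧸ K := (QuotientGroup.mk' K).comp H.subtype
  have hinj : Function.Injective e := by
    rw [injective_iff_map_eq_one]
    intro x hx
    have h2 : (x : G) ∈ K ⊓ H := ⟨(QuotientGroup.eq_one_iff (x : G)).1 hx, x.2⟩
    rw [hdisj, Subgroup.mem_bot] at h2
    exact Subtype.ext h2
  have hsurj : Function.Surjective e := by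
    intro y
    induction y using QuotientGroup.induction_on with
    | H g =>
      obtain ⟨k, hk, x, hx, hkx⟩ := Subgroup.mem_sup_of_normal_left.1
        (show g ∈ K ⊔ H by rw [hsup]; exact Subgroup.mem_top _)
      refine ⟨⟨x, hx⟩, QuotientGroup.eq.2 ?_⟩
      have := ‹K.Normal›.conj_mem k hk x⁻¹
      rw [← hkx]
      simpa [mul_assoc] using this
  let eq := MulEquiv.ofBijective e ⟨hinj, hsurj⟩
  exact linked_of_surjective (eq.symm.toMonoidHom.comp (QuotientGroup.mk' K))
    (eq.symm.surjective.comp (QuotientGroup.mk'_surjective K)) h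

set_option maxHeartbeats 1000000 in
/-- Both primes act nontrivially on the dual of a minimal normal subgroup: they are linked. -/
theorem linked_of_dual [Finite G] [Group.IsSolvable G] {N K H : Subgroup G} [N.Normal] [K.Normal]
    (hmin : Cfsg.Lib.Core.IsMinNormal N) (hNK : N ≤ K) (hcent : ∀ k ∈ K, ∀ a ∈ N, k * a = a * k)
    (hdisj : K ⊓ H = ⊥) (hsup : K ⊔ H = ⊤) {l : ℕ} [Fact l.Prime] (hexp : ∀ x ∈ N, x ^ l = 1)
    {r t : ℕ} [Fact r.Prime] [Fact t.Prime] (hrt : r ≠ t) (hr : DualCover N H r) (ht : DualCover N H t)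
    (hrk : ∀ R : Sylow r H, ¬ (R : Subgroup H) ≤ (dualAct N H).ker)
    (htk : ∀ R : Sylow t H, ¬ (R : Subgroup H) ≤ (dualAct N H).ker) : Linked r t G := by
  have hN : IsMulCommutative N := ⟨⟨fun a b => Subtype.ext (hcent a (hNK a.2) b b.2)⟩⟩
  haveI := nontrivial_dual N hN hmin.2.1
  haveI := finite_dual N hN
  have hexp' : ∀ m : N →* ℂˣ, m ^ l = 1 := fun m => MonoidHom.ext fun a => by
    rw [MonoidHom.pow_apply, ← map_pow, show a ^ l = 1 from Subtype.ext (hexp a a.2), map_one]
    rfl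
  have hirr : ∀ S : Subgroup (N →* ℂˣ), (∀ h, ∀ m ∈ S, dualAct N H h m ∈ S) → S = ⊥ ∨ S = ⊤ := by
    intro S hS
    let U : Subgroup N :=
      { carrier := {a | ∀ m ∈ S, m a = 1}
        one_mem' := fun m _ => map_one m
        mul_mem' := fun ha hb m hm => by rw [map_mul, ha m hm, hb m hm, one_mul]
        inv_mem' := fun ha m hm => by rw [map_inv, ha m hm, inv_one] }
    have hUn : (U.map N.subtype).Normal := ⟨by
      rintro _ ⟨a, ha, rfl⟩ g
      obtain ⟨k, hk, h, hh, rfl⟩ := Subgroup.mem_sup_of_normal_left.1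
        (show g ∈ K ⊔ H by rw [hsup]; exact Subgroup.mem_top _)
      refine ⟨MulAut.conjNormal h a, fun m hm => ?_, ?_⟩
      · have h1 := ha _ (hS ⟨h, hh⟩⁻¹ m hm)
        have h2 : twHom N m ((⟨h, hh⟩⁻¹ : H) : G)⁻¹ a = 1 := h1
        simpa [twHom] using h2
      · show (MulAut.conjNormal h a : G) = k * h * (a : G) * (k * h)⁻¹
        rw [MulAut.conjNormal_apply, mul_inv_rev]
        have h3 : k * (h * (a : G) * h⁻¹) = h * (a : G) * h⁻¹ * k :=
          hcent k hk _ (‹N.Normal›.conj_mem _ a.2 h)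
        calc h * (a : G) * h⁻¹ = (h * (a : G) * h⁻¹ * k) * k⁻¹ := by group
          _ = _ := by rw [← h3]; group⟩
    rcases hmin.2.2 _ hUn (by rintro _ ⟨a, -, rfl⟩; exact a.2) with h | h
    · refine Or.inr (dual_eq_top N hN fun a ha => ?_)
      have : (a : G) ∈ U.map N.subtype := ⟨a, ha, rfl⟩
      rw [h, Subgroup.mem_bot] at this
      exact Subtype.ext this
    · refine Or.inl ((Subgroup.eq_bot_iff_forall _).2 fun m hm => MonoidHom.ext fun a => ?_)
      have : (a : G) ∈ U.map N.subtype := by rw [h]; exact a.2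
      obtain ⟨b, hb, hba⟩ := this
      rw [← show b = a from Subtype.ext hba]
      exact hb m hm
  exact linked_complement K H hdisj hsup (linked_of_action hexp' (dualAct N H) hirr hrt
    (fun m hm => (hr m hm).imp fun R h => ⟨h.1, h.2.1⟩) (fun m hm => (ht m hm).imp fun R h => ⟨h.1, h.2.1⟩)
    hrk htk)

/-- A Sylow subgroup inside a subgroup of prime-to-`p` index. -/
theorem exists_sylow_le [Finite G] {p : ℕ} [Fact p.Prime] (T : Subgroup G) (h : ¬ p ∣ T.index) :
    ∃ S : Sylow p G, (S : Subgroup G) ≤ T := by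
  let S₁ : Sylow p T := default
  have hcard : Nat.card ((S₁ : Subgroup T).map T.subtype) = p ^ (Nat.card G).factorization p := by
    rw [Nat.card_congr ((S₁ : Subgroup T).equivMapOfInjective T.subtype T.subtype_injective).symm.toEquiv,
      Sylow.card_eq_multiplicity, ← T.card_mul_index, Nat.factorization_mul Nat.card_pos.ne'
        Subgroup.index_ne_zero_of_finite, Finsupp.add_apply,
      Nat.factorization_eq_zero_of_not_dvd h, add_zero]
  refine ⟨Sylow.ofCard _ hcard, ?_⟩
  rw [Sylow.coe_ofCard]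
  rintro _ ⟨s, -, rfl⟩
  exact s.2

set_option maxHeartbeats 1000000 in
/-- The stabiliser data for a prime avoiding the degrees over a fixed linear character. -/
theorem exists_sylow_linear [Fintype G] [Group.IsSolvable G] (N H : Subgroup G) [N.Normal] [Fintype N]
    (hdisj : N ⊓ H = ⊥) (hsup : N ⊔ H = ⊤) (l : N →* ℂˣ) {p q : ℕ} (hp : p.Prime) [Fact q.Prime]
    (hpq : p ≠ q) (hlink : ¬ Linked p q G) (hpd : p ∣ (inertia N (lin l)).index) :
    ∃ Q : Sylow q H, (∀ g ∈ (Q : Subgroup H), dualAct N H g l = l) ∧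
      (∀ g, dualAct N H g l = l → g ∈ Subgroup.normalizer ((Q : Subgroup H) : Set H)) ∧
      ∀ a ∈ (Q : Subgroup H), ∀ b ∈ (Q : Subgroup H), a * b = b * a := by
  classical
  set T := inertia N (lin l) with hT
  haveI := Fintype.ofFinite T
  have hNT : N ≤ T := le_inertia N (isIrr_lin N l).isClassFunction
  obtain ⟨μ, hμ⟩ := exists_linear_extension N H hdisj hsup l hNT fun t ht => (mem_inertia_lin N).1 ht
  have hη : IsIrrCharacter T (lin μ) := isIrrCharacter_linear μ
  let θ : IrrCharacter N := ⟨lin l, isIrr_lin N l⟩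
  have hres : ∀ (x : N) (hx : (x : G) ∈ T), lin μ ⟨x, hx⟩ = (θ : N → ℂ) x := fun x hx =>
    congrArg Units.val (hμ x)
  have hTθ : T = inertia N (θ : N → ℂ) := hT
  have hq' : ∀ χ : IrrCharacter G, classInner (fun x : N => (χ : G → ℂ) x) (θ : N → ℂ) ≠ 0 →
      ¬ q ∣ charDegree (χ : G → ℂ) := by
    intro χ hc hd
    have h1 := index_inertia_dvd N hc
    rw [← hTθ] at h1
    exact hlink (linked_of_dvd hp Fact.out hpq χ ((dvd_mul_of_dvd_left hpd _).trans h1) hd)
  have hd1 : ¬ q ∣ charDegree (θ : N → ℂ) := by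
    have h1 : charDegree (θ : N → ℂ) = 1 := by
      have h := θ.2.apply_one_eq_charDegree
      have h' : (θ : N → ℂ) 1 = 1 := by show (l 1 : ℂ) = 1; simp
      rw [h'] at h
      exact_mod_cast h.symm
    rw [h1]
    exact (Fact.out : q.Prime).not_dvd_one
  obtain ⟨Q, h1, h2, h3⟩ := exists_sylow_stabilizer N H hdisj hsup hTθ hη hres hq' hd1
  exact ⟨Q, fun g hg => (dualAct_fixed N H g l).2 (h1 hg), fun g hg => h2 ((dualAct_fixed N H g l).1 hg),
    h3⟩

end Cfsg.Lib.Char.ThreePrime
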