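import Cfsg.Agent.Lib.Char.ThreePrime.Setup
import Cfsg.Agent.Lib.Char.ThreePrime.CentralRes
import Cfsg.Agent.Lib.Char.AbelianInertia
import Cfsg.Agent.Lib.Char.InvariantOver
import Cfsg.Agent.Lib.Char.Ito

/-!
# A nonabelian normal Sylow subgroup with minimal commutator subgroup
-/

set_option autoImplicit false
set_option linter.unusedSectionVars false
set_option linter.style.haveILetI false

universe u

namespace Cfsg.Lib.Char.ThreePrime

open Cfsg Cfsg.Lib.Char Cfsg.Lib.Char.RelDeg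
open scoped commutatorElement

variable {G : Type u} [Group G]

/-- The data around the normal Sylow subgroup. -/
structure Top (p : ℕ) (P N H : Subgroup G) : Prop where
  pn : P.Normal
  nn : N.Normal
  pp : IsPGroup p P
  comm : ⁅P, P⁆ = N
  min : Cfsg.Lib.Core.IsMinNormal N
  cent : ∀ k ∈ P, ∀ a ∈ N, k * a = a * k
  exp : ∀ x ∈ N, x ^ p = 1
  disj : P ⊓ H = ⊥
  sup : P ⊔ H = ⊤
  cop : (Nat.card P).Coprime (Nat.card H)

variable {p : ℕ} {P N H : Subgroup G}

theorem Top.le (S : Top p P N H) : N ≤ P := by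
  rw [← S.comm]
  haveI := S.pn
  exact Subgroup.commutator_le_left P P

theorem Top.abelian (S : Top p P N H) : IsMulCommutative N :=
  ⟨⟨fun a b => Subtype.ext (S.cent a (S.le a.2) b b.2)⟩⟩

theorem Top.bracket_mem (S : Top p P N H) {a b : G} (ha : a ∈ P) (hb : b ∈ P) :
    a * b * a⁻¹ * b⁻¹ ∈ N := by
  rw [← S.comm]
  exact Subgroup.commutator_mem_commutator ha hb

theorem Top.hom_eq_one (S : Top p P N H) (m : P →* ℂˣ) {a : G} (ha : a ∈ N) :
    m ⟨a, S.le ha⟩ = 1 := by
  have h : a ∈ (commutator P).map P.subtype := by rw [Subgroup.map_subtype_commutator, S.comm]; exact ha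
  obtain ⟨b, hb, hba⟩ := h
  have h1 := Abelianization.commutator_subset_ker m hb
  rw [MonoidHom.mem_ker] at h1
  rw [← h1]
  exact congrArg m (Subtype.ext hba.symm)

theorem Top.exists_hom_ne_one [Finite G] (S : Top p P N H) {a : P} (ha : (a : G) ∉ N) :
    ∃ m : P →* ℂˣ, m a ≠ 1 := by
  have hne : (Abelianization.of a : Abelianization P) ≠ 1 := fun e => ha (by
    rw [← S.comm, ← Subgroup.map_subtype_commutator]
    exact ⟨a, (QuotientGroup.eq_one_iff a).1 e, rfl⟩)
  haveI : Finite (Abelianization P) := Quotient.finite _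
  obtain ⟨m, hm⟩ := RamifiedSolvable.exists_apply_ne_one hne
  exact ⟨m.comp Abelianization.of, hm⟩

theorem Top.isComplement [Finite G] (S : Top p P N H) : Subgroup.IsComplement' P H := by
  haveI := S.pn
  exact Subgroup.isComplement'_of_disjoint_and_mul_eq_univ (disjoint_iff.2 S.disj)
    (by rw [← Subgroup.normal_mul, S.sup, Subgroup.coe_top])

theorem Top.index [Finite G] (S : Top p P N H) : P.index = Nat.card H := S.isComplement.symm.index_eq_card

/-- The index of a subgroup over `P` is that of its trace on `H`. -/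
theorem Top.index_subgroupOf [Finite G] (S : Top p P N H) {T : Subgroup G} (hT : P ≤ T) :
    (T.subgroupOf H).index = T.index := by
  haveI := S.pn
  let f : H ⧸ T.subgroupOf H → G ⧸ T := Quotient.map' (fun h : H => (h : G)) fun a b hab => by
    rw [QuotientGroup.leftRel_apply] at hab ⊢
    exact Subgroup.mem_subgroupOf.1 hab
  refine Nat.card_eq_of_bijective f ⟨?_, ?_⟩
  · intro a b hab
    induction a using QuotientGroup.induction_on with
    | H a =>
      induction b using QuotientGroup.induction_on with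
      | H b => exact QuotientGroup.eq.2 (Subgroup.mem_subgroupOf.2 (QuotientGroup.eq.1 hab))
  · intro y
    induction y using QuotientGroup.induction_on with
    | H g =>
      obtain ⟨h, hh, k, hk, rfl⟩ := Subgroup.mem_sup_of_normal_right.1
        (show g ∈ H ⊔ P by rw [sup_comm, S.sup]; exact Subgroup.mem_top _)
      refine ⟨QuotientGroup.mk ⟨h, hh⟩, QuotientGroup.eq.2 ?_⟩
      simpa using hT hk

variable [Finite G] [hP : P.Normal]

/-- The Sylow subgroup fixing a nonlinear character. -/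
theorem Top.sylow_of_nonlinear [Fintype G] [Fintype P] [Group.IsSolvable G] (S : Top p P N H)
    (hp : p.Prime) {q : ℕ} [Fact q.Prime] (hpq : p ≠ q) (hlink : ¬ Linked p q G)
    (θ : IrrCharacter P) (hθ : (θ : P → ℂ) 1 ≠ 1) :
    ∃ Q : Sylow q H, (Q : Subgroup H) ≤ (inertia P (θ : P → ℂ)).subgroupOf H ∧
      (inertia P (θ : P → ℂ)).subgroupOf H ≤ Subgroup.normalizer ((Q : Subgroup H) : Set H) ∧
      ∀ a ∈ (Q : Subgroup H), ∀ b ∈ (Q : Subgroup H), a * b = b * a := by
  classical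
  set T := inertia P (θ : P → ℂ) with hT
  haveI := Fintype.ofFinite T
  haveI := Fintype.ofFinite (P.subgroupOf T)
  have hPT : P ≤ T := le_inertia P θ.2.isClassFunction
  obtain ⟨k, hk⟩ := (haveI := Fact.mk hp; IsPGroup.iff_card.1 S.pp)
  have hd := degree_dvd_card θ.2 θ.2.apply_one_eq_charDegree
  rw [hk] at hd
  obtain ⟨j, -, hj⟩ := (Nat.dvd_prime_pow hp).1 hd
  have hj0 : j ≠ 0 := by
    rintro rfl
    refine hθ ?_
    rw [θ.2.apply_one_eq_charDegree, hj, pow_zero, Nat.cast_one]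
  have hpd : p ∣ charDegree (θ : P → ℂ) := hj ▸ dvd_pow_self p hj0
  have hqd : ¬ q ∣ charDegree (θ : P → ℂ) := fun h =>
    hpq ((Nat.prime_dvd_prime_iff_eq Fact.out hp).1 ((Fact.out : q.Prime).dvd_of_dvd_pow (hj ▸ h))).symm
  have hθ' := isIrrCharacter_resTo P θ.2 hPT
  obtain ⟨η, hη, hηres⟩ := exists_extension_of_coprime (P.subgroupOf T) hθ' (fun t => by
    funext x
    exact (mem_inertia_iff P).1 (hT ▸ t.2) ⟨(x : T), Subgroup.mem_subgroupOf.1 x.2⟩) (by
    rw [Nat.card_congr (Subgroup.subgroupOfEquivOfLe hPT).toEquiv]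
    have h : P.relIndex T ∣ P.index := Subgroup.relIndex_dvd_index_of_normal P T
    rw [S.index] at h
    exact Nat.Coprime.coprime_dvd_right h S.cop)
  have hres : ∀ (x : P) (hx : (x : G) ∈ T), η ⟨x, hx⟩ = (θ : P → ℂ) x := fun x hx => by
    exact congrFun hηres ⟨⟨(x : G), hx⟩, Subgroup.mem_subgroupOf.2 x.2⟩
  have hq' : ∀ χ : IrrCharacter G, classInner (fun x : P => (χ : G → ℂ) x) (θ : P → ℂ) ≠ 0 →
      ¬ q ∣ charDegree (χ : G → ℂ) := fun χ hc h => by
    exact hlink (linked_of_dvd hp Fact.out hpq χ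
      ((dvd_mul_of_dvd_right hpd _).trans (index_inertia_dvd P hc)) h)
  exact exists_sylow_stabilizer P H S.disj S.sup hT hη hres hq' hqd

/-- An irreducible character over a linear character of `N` fixed by the stabiliser in `H`. -/
theorem Top.exists_over [Fintype G] [Fintype P] [Fintype N] [hN : N.Normal] (S : Top p P N H)
    {S₀ : Subgroup G} (hS₀ : S₀ ≤ H) (z : N →* ℂˣ)
    (hinv : ∀ s ∈ S₀, twHom N z s = z) :
    ∃ θ : IrrCharacter P, (∀ a : N, (θ : P → ℂ) (Subgroup.inclusion S.le a) = (θ : P → ℂ) 1 * (z a : ℂ)) ∧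
      S₀ ≤ inertia P (θ : P → ℂ) := by
  haveI := S.nn
  have hnP : ∀ K : Subgroup G, K ≤ Subgroup.normalizer (P : Set G) := fun K => by
    rw [Subgroup.normalizer_eq_top P]; exact le_top
  have hnN : ∀ K : Subgroup G, K ≤ Subgroup.normalizer (N : Set G) := fun K => by
    rw [Subgroup.normalizer_eq_top N]; exact le_top
  obtain ⟨ψ, hψ, hψN, hψS⟩ := exists_inv_over_abelian (S := S₀) (M := P) (N := N) (hnP S₀)
    (S.cop.coprime_dvd_right (Subgroup.card_dvd_of_le hS₀)) S.le (hnN P)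
    (fun a ha b hb => S.bracket_mem ha hb) (hnN S₀) (θ := lin z) (isIrr_lin N z) (by
      intro s hs a a' ha
      have h := DFunLike.congr_fun (hinv s hs) a
      show (z a' : ℂ) = (z a : ℂ)
      rw [← h]
      exact congrArg (fun x => (z x : ℂ)) (Subtype.ext (by rw [ha]; rfl)))
  refine ⟨⟨ψ, hψ⟩, fun a => apply_of_central hψ (Subgroup.inclusion S.le)
    (fun a g => Subtype.ext (S.cent g g.2 a a.2).symm) z hψN a, fun s hs => (mem_inertia_iff P).2 fun k => ?_⟩
  exact hψS s hs k _ rfl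

theorem Top.nonlinear [Fintype P] (S : Top p P N H) {θ : IrrCharacter P} {z : N →* ℂˣ} (hz : z ≠ 1)
    (h : ∀ a : N, (θ : P → ℂ) (Subgroup.inclusion S.le a) = (θ : P → ℂ) 1 * (z a : ℂ)) :
    (θ : P → ℂ) 1 ≠ 1 := by
  intro h1
  obtain ⟨μ, hμ⟩ := exists_hom_of_degree_one θ.2.isCharacter h1
  refine hz (MonoidHom.ext fun a => Units.ext ?_)
  have h2 := h a
  rw [h1, one_mul, hμ] at h2
  show (z a : ℂ) = 1
  rw [← h2]
  show (μ ⟨(a : G), S.le a.2⟩ : ℂ) = 1
  rw [S.hom_eq_one μ a.2, Units.val_one]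

/-- The stabiliser of the character below contains that of the character above. -/
theorem Top.inertia_le [Fintype G] [Fintype P] [Fintype N] [hN : N.Normal] (S : Top p P N H)
    {θ : IrrCharacter P} {z : N →* ℂˣ}
    (h : ∀ a : N, (θ : P → ℂ) (Subgroup.inclusion S.le a) = (θ : P → ℂ) 1 * (z a : ℂ)) {g : G}
    (hg : g ∈ inertia P (θ : P → ℂ)) : g ∈ inertia N (lin z) := by
  refine (mem_inertia_iff N).2 fun a => ?_
  have h1 := (mem_inertia_iff P).1 hg (Subgroup.inclusion S.le a)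
  rw [h a] at h1
  have h2 := h ⟨g * a * g⁻¹, hN.conj_mem a a.2 g⟩
  exact mul_left_cancel₀ θ.2.apply_one_ne_zero (h2.symm.trans h1)

/-- Every nontrivial linear character of `N` is covered for `q`. -/
theorem Top.cover [Fintype G] [Fintype P] [Fintype N] [hN : N.Normal] [Group.IsSolvable G]
    (S : Top p P N H) (hp : p.Prime) {q : ℕ} [Fact q.Prime] (hpq : p ≠ q) (hlink : ¬ Linked p q G) :
    DualCover N H q := by
  intro z hz
  obtain ⟨θ, hθN, hθS⟩ := S.exists_over (S₀ := inertia N (lin z) ⊓ H) inf_le_right z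
    fun s hs => (mem_inertia_lin N).1 hs.1
  obtain ⟨Q, h1, h2, h3⟩ := S.sylow_of_nonlinear hp hpq hlink θ (S.nonlinear hz hθN)
  exact ⟨Q, fun g hg => (dualAct_fixed N H g z).2 (S.inertia_le hθN (h1 hg)),
    fun g hg => h2 (hθS ⟨(dualAct_fixed N H g z).1 hg, g.2⟩), h3⟩

omit hP in
/-- A commutator centralised by a coprime element lies in the normal subgroup. -/
theorem mem_of_fixed {M : Subgroup G} [M.Normal] {x u c : G} (hc : c = x * u * x⁻¹ * u⁻¹)
    (h : x * c * x⁻¹ * c⁻¹ ∈ M) (hcop : (orderOf x).Coprime (orderOf c)) : c ∈ M := by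
  rw [← QuotientGroup.eq_one_iff] at h ⊢
  set X : G ⧸ M := QuotientGroup.mk x
  set U : G ⧸ M := QuotientGroup.mk u
  set C : G ⧸ M := QuotientGroup.mk c with hC
  have h1 : X * U * X⁻¹ = C * U := by
    rw [hC, hc]
    simp only [X, U, QuotientGroup.mk_mul, QuotientGroup.mk_inv, inv_mul_cancel_right]
  have h2 : X * C = C * X := by
    have h' : X * C * X⁻¹ * C⁻¹ = 1 := by
      simpa only [QuotientGroup.mk_mul, QuotientGroup.mk_inv] using h
    calc X * C = X * C * X⁻¹ * C⁻¹ * (C * X) := by group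
      _ = _ := by rw [h', one_mul]
  have key : ∀ k : ℕ, X ^ k * U * (X ^ k)⁻¹ = C ^ k * U := by
    intro k
    induction k with
    | zero => simp
    | succ k ih =>
      rw [pow_succ' X, mul_inv_rev, show X * X ^ k * U * ((X ^ k)⁻¹ * X⁻¹) =
        X * (X ^ k * U * (X ^ k)⁻¹) * X⁻¹ by group, ih]
      calc X * (C ^ k * U) * X⁻¹ = (X * C ^ k) * U * X⁻¹ := by group
        _ = (C ^ k * X) * U * X⁻¹ := by rw [((show Commute X C from h2).pow_right k).eq]
        _ = C ^ k * (X * U * X⁻¹) := by group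
        _ = C ^ (k + 1) * U := by rw [h1, pow_succ]; group
  have h3 := key (orderOf x)
  have hX : X ^ orderOf x = 1 := by
    show ((x : G ⧸ M)) ^ orderOf x = 1
    rw [← QuotientGroup.mk_pow, pow_orderOf_eq_one, QuotientGroup.mk_one]
  rw [hX, one_mul, inv_one, mul_one, right_eq_mul] at h3
  have h4 : C ^ orderOf c = 1 := by
    rw [hC, ← QuotientGroup.mk_pow, pow_orderOf_eq_one, QuotientGroup.mk_one]
  exact eq_one_of_pow_coprime h3 h4 hcop

/-- The elements of `P` centralised by a subgroup modulo `N`. -/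
def fixMod (S : Top p P N H) (A : Subgroup H) : Subgroup G where
  carrier := {y | y ∈ P ∧ ∀ x ∈ A, (x : G) * y * (x : G)⁻¹ * y⁻¹ ∈ N}
  one_mem' := ⟨P.one_mem, fun x _ => by simp⟩
  mul_mem' := fun {a b} ha hb => ⟨P.mul_mem ha.1 hb.1, fun x hx => by
    rw [show (x : G) * (a * b) * (x : G)⁻¹ * (a * b)⁻¹ =
      ((x : G) * a * (x : G)⁻¹ * a⁻¹) * (a * ((x : G) * b * (x : G)⁻¹ * b⁻¹) * a⁻¹) by group]
    exact N.mul_mem (ha.2 x hx) (S.nn.conj_mem _ (hb.2 x hx) a)⟩
  inv_mem' := fun {a} ha => ⟨P.inv_mem ha.1, fun x hx => by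
    rw [show (x : G) * a⁻¹ * (x : G)⁻¹ * a⁻¹⁻¹ =
      a⁻¹ * ((x : G) * a * (x : G)⁻¹ * a⁻¹)⁻¹ * a⁻¹⁻¹ by group]
    exact S.nn.conj_mem _ (N.inv_mem (ha.2 x hx)) a⁻¹⟩

theorem fixMod_le (S : Top p P N H) (A : Subgroup H) : fixMod S A ≤ P := fun _ h => h.1

theorem le_fixMod (S : Top p P N H) (A : Subgroup H) : N ≤ fixMod S A := fun a ha =>
  ⟨S.le ha, fun _ _ => N.mul_mem (S.nn.conj_mem a ha _) (N.inv_mem ha)⟩

/-- A linear character fixed by `A` and trivial on `fixMod` is trivial. -/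
theorem Top.eq_one_of_fixed [Fintype G] (S : Top p P N H) (A : Subgroup H) (m : P →* ℂˣ)
    (hK : ∀ y : P, (y : G) ∈ fixMod S A → m y = 1)
    (hfix : ∀ x ∈ A, ((x : H) : G) ∈ inertia P (lin m)) : m = 1 := by
  classical
  haveI := S.nn
  haveI : (N.subgroupOf P).Normal := S.nn.subgroupOf P
  letI : CommGroup (P ⧸ N.subgroupOf P) :=
    { (inferInstance : Group (P ⧸ N.subgroupOf P)) with
      mul_comm := fun a b => by
        induction a using QuotientGroup.induction_on with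
        | _ x =>
          induction b using QuotientGroup.induction_on with
          | _ y =>
            rw [← QuotientGroup.mk_mul, ← QuotientGroup.mk_mul, QuotientGroup.eq]
            rw [show (x * y)⁻¹ * (y * x) = y⁻¹ * x⁻¹ * y⁻¹⁻¹ * x⁻¹⁻¹ by group]
            exact S.bracket_mem (y⁻¹).2 (x⁻¹).2 }
  let mbar : P ⧸ N.subgroupOf P →* ℂˣ := QuotientGroup.lift (N.subgroupOf P) m fun a ha =>
    S.hom_eq_one m (Subgroup.mem_subgroupOf.1 ha)
  let c : H → (P →* P) := fun x => (MulAut.conjNormal (x : G) : MulAut P).toMonoidHom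
  haveI := Fintype.ofFinite A
  refine MonoidHom.ext fun u => ?_
  let v : P ⧸ N.subgroupOf P := ∏ x : A, QuotientGroup.mk (c x u)
  obtain ⟨w, hw⟩ := QuotientGroup.mk_surjective v
  have hwK : (w : G) ∈ fixMod S A := by
    refine ⟨w.2, fun y hy => ?_⟩
    let φ : P ⧸ N.subgroupOf P →* P ⧸ N.subgroupOf P :=
      QuotientGroup.map _ _ (c y) fun a ha => Subgroup.mem_comap.2 (Subgroup.mem_subgroupOf.2 (by
        show (MulAut.conjNormal ((y : H) : G) a : G) ∈ N
        rw [MulAut.conjNormal_apply]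
        exact S.nn.conj_mem _ (Subgroup.mem_subgroupOf.1 ha) _))
    have hφ : φ (QuotientGroup.mk w) = QuotientGroup.mk w := by
      rw [hw]
      show φ (∏ x : A, QuotientGroup.mk (c x u)) = _
      rw [map_prod]
      refine Fintype.prod_equiv (Equiv.mulLeft (⟨y, hy⟩ : A)) _ _ fun x => ?_
      refine congrArg QuotientGroup.mk (Subtype.ext ?_)
      simp [c, MulAut.conjNormal_apply, mul_assoc]
    have h := Subgroup.mem_subgroupOf.1 (QuotientGroup.eq.1 hφ.symm)
    have h' : (w : G)⁻¹ * ((y : G) * w * (y : G)⁻¹) ∈ N := by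
      simpa [c, MulAut.conjNormal_apply] using h
    have := S.nn.conj_mem _ h' (w : G)
    rw [show (w : G) * ((w : G)⁻¹ * ((y : G) * w * (y : G)⁻¹)) * (w : G)⁻¹ =
      (y : G) * w * (y : G)⁻¹ * (w : G)⁻¹ by group] at this
    exact this
  have h1 : mbar v = m u ^ Nat.card A := by
    show mbar (∏ x : A, QuotientGroup.mk (c x u)) = _
    rw [map_prod, Nat.card_eq_fintype_card, ← Finset.card_univ, ← Finset.prod_const]
    refine Finset.prod_congr rfl fun x _ => ?_
    show m (c x u) = m u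
    exact DFunLike.congr_fun ((mem_inertia_lin P).1 (hfix x x.2)) u
  have h2 : m u ^ Nat.card A = 1 := by
    rw [← h1, ← hw]
    exact hK w hwK
  have h3 : m u ^ Nat.card P = 1 := by rw [← map_pow, pow_card_eq_one', map_one]
  exact eq_one_of_pow_coprime h2 h3
    ((S.cop.coprime_dvd_right (A.card_subgroup_dvd_card)).symm)

/-- A Sylow subgroup of `H` acting trivially on `N` acts nontrivially modulo `N`. -/
theorem Top.exists_commutator_notMem [Fintype G] (S : Top p P N H) {q : ℕ} [Fact q.Prime]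
    (hbad : ¬ Lib.Block.DegreesPrimeTo q G) (Q : Sylow q H) (hn : (Q : Subgroup H).Normal)
    (hc : ∀ a ∈ (Q : Subgroup H), ∀ b ∈ (Q : Subgroup H), a * b = b * a)
    (hker : ∀ x ∈ (Q : Subgroup H), ∀ a ∈ N, (x : G) * a = a * x) (hqp : ¬ q ∣ Nat.card P) :
    ∃ x ∈ (Q : Subgroup H), ∃ u ∈ P, (x : G) * u * (x : G)⁻¹ * u⁻¹ ∉ fixMod S Q := by
  by_contra hcon
  push Not at hcon
  haveI := S.nn
  have hcopr : ∀ (x : H) (c : G), c ∈ P → (orderOf (x : G)).Coprime (orderOf c) := fun x c hc =>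
    (S.cop.symm.coprime_dvd_left (by rw [Subgroup.orderOf_coe]; exact orderOf_dvd_natCard x)).coprime_dvd_right
      (by rw [← Subgroup.orderOf_mk c hc]; exact orderOf_dvd_natCard _)
  have hconjP : ∀ (x : H) (u : G), u ∈ P → (x : G) * u * (x : G)⁻¹ * u⁻¹ ∈ P := fun x u hu =>
    P.mul_mem (hP.conj_mem u hu _) (P.inv_mem hu)
  have hN : ∀ x ∈ (Q : Subgroup H), ∀ u ∈ P, (x : G) * u * (x : G)⁻¹ * u⁻¹ ∈ N := fun x hx u hu =>
    mem_of_fixed rfl ((hcon x hx u hu).2 x hx) (hcopr x _ (hconjP x u hu))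
  have hPc : ∀ x ∈ (Q : Subgroup H), ∀ u ∈ P, (x : G) * u = u * x := fun x hx u hu => by
    have h := hN x hx u hu
    have h1 : (x : G) * ((x : G) * u * (x : G)⁻¹ * u⁻¹) * (x : G)⁻¹ *
        ((x : G) * u * (x : G)⁻¹ * u⁻¹)⁻¹ ∈ (⊥ : Subgroup G) := by
      rw [Subgroup.mem_bot, hker x hx _ h, mul_inv_cancel_right, mul_inv_cancel]
    have h2 := Subgroup.mem_bot.1 (mem_of_fixed (M := (⊥ : Subgroup G)) rfl h1 (hcopr x _ (hconjP x u hu)))
    calc (x : G) * u = ((x : G) * u * (x : G)⁻¹ * u⁻¹) * u * x := by group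
      _ = u * x := by rw [h2, one_mul]
  set Q' := (Q : Subgroup H).map H.subtype with hQ'
  have hQn : Q'.Normal := ⟨by
    rintro _ ⟨x, hx, rfl⟩ g
    obtain ⟨k, hk, h, hh, rfl⟩ := Subgroup.mem_sup_of_normal_left.1
      (show g ∈ P ⊔ H by rw [S.sup]; exact Subgroup.mem_top _)
    refine ⟨⟨h, hh⟩ * x * ⟨h, hh⟩⁻¹, hn.conj_mem x hx _, ?_⟩
    have e := hPc _ (hn.conj_mem x hx ⟨h, hh⟩) k hk
    have e' : h * (x : G) * h⁻¹ * k = k * (h * (x : G) * h⁻¹) := e
    show h * (x : G) * h⁻¹ = k * h * (x : G) * (k * h)⁻¹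
    calc h * (x : G) * h⁻¹ = h * (x : G) * h⁻¹ * k * k⁻¹ := by group
      _ = _ := by rw [e']; group⟩
  refine hbad fun χ hd => ?_
  have h1 := hd.trans (degree_dvd_index_of_comm Q' (by
    rintro _ ⟨a, ha, rfl⟩ _ ⟨b, hb, rfl⟩
    exact congrArg Subtype.val (hc a ha b hb)) χ.2 χ.2.apply_one_eq_charDegree)
  rw [hQ', Subgroup.index_map_subtype, S.isComplement.index_eq_card] at h1
  rcases (Fact.out : q.Prime).dvd_mul.1 h1 with h | h
  · exact Q.not_dvd_index h
  · exact hqp h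

end Cfsg.Lib.Char.ThreePrime
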